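import Mathlib
import Cfsg.Agent.Lib.Helper5.PGBC.IfaceSp
import Cfsg.Agent.Lib.Helper5.PGBC.PadLemmas

/-!
Orthogonal decompositions double odd element orders in `PSp`: if an isometry `T` of odd order `k`
of a symplectic space leaves invariant both summands of an orthogonal decomposition
`V = W ⊥ W'` with `W, W' ≠ 0`, then `2 * k` is an element order of `PSp`.
-/

set_option autoImplicit false

namespace Cfsg.Agent.Lib.Helper5.PSpCube

open Module Cfsg.Agent.Lib.Helper5.PGBC Cfsg.Agent.Lib.Helper5.SpecBC

section general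

variable {F : Type*} [Field F] {V : Type*} [AddCommGroup V] [Module F V]

/-- two maps agreeing on complementary subspaces are equal -/
theorem ext_isCompl {W W' : Submodule F V} (hc : IsCompl W W') {f g : Module.End F V}
    (h₁ : ∀ a ∈ W, f a = g a) (h₂ : ∀ a ∈ W', f a = g a) : f = g := by
  apply LinearMap.ext
  intro z
  have hz : z ∈ W ⊔ W' := by rw [hc.sup_eq_top]; trivial
  obtain ⟨a, ha, b, hb, rfl⟩ := Submodule.mem_sup.1 hz
  rw [map_add, map_add, h₁ a ha, h₂ b hb]

/-- the sign flip: `-1` on `W`, `1` on `W'` -/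
noncomputable def flipMap (W W' : Submodule F V) (hc : IsCompl W W') : Module.End F V :=
  1 - (2 : F) • (W.subtype ∘ₗ Submodule.linearProjOfIsCompl W W' hc)

theorem flipMap_left {W W' : Submodule F V} (hc : IsCompl W W') {a : V} (ha : a ∈ W) :
    flipMap W W' hc a = -a := by
  have h1 : Submodule.linearProjOfIsCompl W W' hc a = ⟨a, ha⟩ :=
    Submodule.linearProjOfIsCompl_apply_left hc ⟨a, ha⟩
  simp only [flipMap, LinearMap.sub_apply, Module.End.one_apply, LinearMap.smul_apply,
    LinearMap.comp_apply, h1, Submodule.subtype_apply]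
  rw [two_smul]
  abel

theorem flipMap_right {W W' : Submodule F V} (hc : IsCompl W W') {b : V} (hb : b ∈ W') :
    flipMap W W' hc b = b := by
  have h1 : Submodule.linearProjOfIsCompl W W' hc b = 0 :=
    (Submodule.linearProjOfIsCompl_apply_eq_zero_iff hc).2 hb
  simp only [flipMap, LinearMap.sub_apply, Module.End.one_apply, LinearMap.smul_apply,
    LinearMap.comp_apply, h1, map_zero, smul_zero, sub_zero]

theorem flipMap_sq {W W' : Submodule F V} (hc : IsCompl W W') :
    flipMap W W' hc * flipMap W W' hc = 1 := by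
  apply ext_isCompl hc
  · intro a ha
    rw [Module.End.mul_apply, flipMap_left hc ha, map_neg, flipMap_left hc ha, neg_neg,
      Module.End.one_apply]
  · intro b hb
    rw [Module.End.mul_apply, flipMap_right hc hb, flipMap_right hc hb, Module.End.one_apply]

theorem flipMap_commute {W W' : Submodule F V} (hc : IsCompl W W') {T : Module.End F V}
    (hW : ∀ a ∈ W, T a ∈ W) (hW' : ∀ b ∈ W', T b ∈ W') : Commute T (flipMap W W' hc) := by
  apply ext_isCompl hc
  · intro a ha
    rw [Module.End.mul_apply, Module.End.mul_apply, flipMap_left hc ha, flipMap_left hc (hW a ha),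
      map_neg]
  · intro b hb
    rw [Module.End.mul_apply, Module.End.mul_apply, flipMap_right hc hb,
      flipMap_right hc (hW' b hb)]

theorem flipMap_pres {W W' : Submodule F V} (hc : IsCompl W W') {B : LinearMap.BilinForm F V}
    (h1 : ∀ a ∈ W, ∀ b ∈ W', B a b = 0) (h2 : ∀ a ∈ W, ∀ b ∈ W', B b a = 0) :
    Pres B (flipMap W W' hc) := by
  intro z z'
  have hz : z ∈ W ⊔ W' := by rw [hc.sup_eq_top]; trivial
  have hz' : z' ∈ W ⊔ W' := by rw [hc.sup_eq_top]; trivial
  obtain ⟨a, ha, b, hb, rfl⟩ := Submodule.mem_sup.1 hz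
  obtain ⟨a', ha', b', hb', rfl⟩ := Submodule.mem_sup.1 hz'
  simp only [map_add, flipMap_left hc ha, flipMap_left hc ha', flipMap_right hc hb,
    flipMap_right hc hb', LinearMap.add_apply, map_neg, LinearMap.neg_apply, h1 a ha b' hb',
    h2 a' ha' b hb, neg_neg, neg_zero, add_zero, zero_add]

theorem flipMap_pow {W W' : Submodule F V} (hc : IsCompl W W') (j : ℕ) :
    flipMap W W' hc ^ j = if Even j then 1 else flipMap W W' hc := by
  induction j with
  | zero => simp
  | succ i ih =>
    rw [pow_succ, ih]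
    by_cases h : Even i
    · rw [if_pos h, if_neg (by rw [Nat.even_add_one]; exact not_not.2 h), one_mul]
    · rw [if_neg h, if_pos (by rw [Nat.even_add_one]; exact h), flipMap_sq]

end general

section main

variable {F : Type*} [Field F] [Fintype F] {V : Type*} [AddCommGroup V] [Module F V]
  [FiniteDimensional F V]

/-- a nonzero vector fixed up to the sign `-1` by an odd-order map does not exist -/
theorem no_neg_fix (h2 : (2 : F) ≠ 0) {T : Module.End F V} {k : ℕ} (hk : Odd k)
    (hTk : T ^ k = 1) {j : ℕ} {a : V} (ha : (T ^ j) a = -a) : a = 0 := by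
  have h1 : ∀ i : ℕ, ((T ^ j) ^ i) a = (-1 : F) ^ i • a := by
    intro i
    induction i with
    | zero => simp
    | succ l ih =>
      rw [pow_succ, Module.End.mul_apply, ha, map_neg, ih, pow_succ]
      simp
  have h3 := h1 k
  rw [← pow_mul, mul_comm, pow_mul, hTk, one_pow, Module.End.one_apply, hk.neg_one_pow,
    neg_one_smul] at h3
  have h4 : (2 : F) • a = 0 := by
    rw [two_smul]
    nth_rewrite 1 [h3]
    exact neg_add_cancel a
  rcases smul_eq_zero.1 h4 with h | h
  · exact absurd h h2
  · exact h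

/-- **Doubling lemma**: an invariant orthogonal decomposition into nonzero summands doubles an
odd element order. -/
theorem good_of_isCompl (h2 : (2 : F) ≠ 0) {n : ℕ} (hn : 1 ≤ n) (B : LinearMap.BilinForm F V)
    (hB : B.IsAlt) (hnd : ∀ a, (∀ b, B a b = 0) → a = 0) (hdim : finrank F V = 2 * n)
    (T : Module.End F V) (hT : Pres B T) {k : ℕ} (hk : Odd k) (hTk : ∀ j, T ^ j = 1 ↔ k ∣ j)
    (W W' : Submodule F V) (hc : IsCompl W W') (horth : ∀ a ∈ W, ∀ b ∈ W', B a b = 0)
    (hW : ∀ a ∈ W, T a ∈ W) (hW' : ∀ b ∈ W', T b ∈ W') (hW0 : W ≠ ⊥) (hW'0 : W' ≠ ⊥) :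
    2 * k ∈ Set.range (orderOf : Cfsg.PSp n F → ℕ) := by
  have horth' : ∀ a ∈ W, ∀ b ∈ W', B b a = 0 := by
    intro a ha b hb
    rw [← hB.neg_eq, horth a ha b hb, neg_zero]
  set r := flipMap W W' hc with hr
  have hcomm : Commute T r := flipMap_commute hc hW hW'
  have hTkk : T ^ k = 1 := (hTk k).2 dvd_rfl
  obtain ⟨a₀, ha₀, ha₀0⟩ := (Submodule.ne_bot_iff W).1 hW0
  obtain ⟨b₀, hb₀, hb₀0⟩ := (Submodule.ne_bot_iff W').1 hW'0
  have hWpow : ∀ (j : ℕ), ∀ a ∈ W, (T ^ j) a ∈ W := by
    intro j
    induction j with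
    | zero => intro a ha; simpa using ha
    | succ i ih => intro a ha; rw [pow_succ, Module.End.mul_apply]; exact ih _ (hW a ha)
  have hW'pow : ∀ (j : ℕ), ∀ b ∈ W', (T ^ j) b ∈ W' := by
    intro j
    induction j with
    | zero => intro a ha; simpa using ha
    | succ i ih => intro a ha; rw [pow_succ, Module.End.mul_apply]; exact ih _ (hW' a ha)
  apply psp_of_abstract hn B hB hnd hdim (T * r) (hT.mul (flipMap_pres hc horth horth'))
  intro j
  rw [hcomm.mul_pow, hr, flipMap_pow]
  have hcop : Nat.Coprime 2 k := (Nat.coprime_two_left).2 hk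
  constructor
  · intro h
    -- on `W'` the power of `T` is `±1`
    have hb : (T ^ j) b₀ = b₀ := by
      rcases h with h | h
      · have h3 := congrArg (fun f : Module.End F V => f b₀) h
        by_cases he : Even j
        · rw [if_pos he, mul_one] at h3
          simpa using h3
        · rw [if_neg he] at h3
          simp only [Module.End.mul_apply, flipMap_right hc hb₀, Module.End.one_apply] at h3
          exact h3
      · exfalso
        have h3 := congrArg (fun f : Module.End F V => f b₀) h
        have h4 : (T ^ j) b₀ = -b₀ := by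
          by_cases he : Even j
          · rw [if_pos he, mul_one] at h3
            simpa using h3
          · rw [if_neg he] at h3
            simp only [Module.End.mul_apply, flipMap_right hc hb₀, LinearMap.neg_apply,
              Module.End.one_apply] at h3
            exact h3
        exact hb₀0 (no_neg_fix h2 hk hTkk h4)
    -- hence the global sign is `+1`
    have hpos : T ^ j * (if Even j then 1 else flipMap W W' hc) = 1 := by
      rcases h with h | h
      · exact h
      · exfalso
        have h3 := congrArg (fun f : Module.End F V => f b₀) h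
        have h4 : (T ^ j) b₀ = -b₀ := by
          by_cases he : Even j
          · rw [if_pos he, mul_one] at h3
            simpa using h3
          · rw [if_neg he] at h3
            simp only [Module.End.mul_apply, flipMap_right hc hb₀, LinearMap.neg_apply,
              Module.End.one_apply] at h3
            exact h3
        rw [hb] at h4
        have h5 : (2 : F) • b₀ = 0 := by
          rw [two_smul]
          nth_rewrite 1 [h4]
          exact neg_add_cancel b₀
        rcases smul_eq_zero.1 h5 with h6 | h6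
        · exact h2 h6
        · exact hb₀0 h6
    have heven : Even j := by
      by_contra he
      rw [if_neg he] at hpos
      have h3 := congrArg (fun f : Module.End F V => f a₀) hpos
      simp only [Module.End.mul_apply, flipMap_left hc ha₀, map_neg, Module.End.one_apply] at h3
      have h4 : (T ^ j) a₀ = -a₀ := neg_eq_iff_eq_neg.1 h3
      exact ha₀0 (no_neg_fix h2 hk hTkk h4)
    rw [if_pos heven, mul_one, hTk] at hpos
    exact Nat.Coprime.mul_dvd_of_dvd_of_dvd hcop (even_iff_two_dvd.1 heven) hpos
  · intro h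
    left
    have h3 : Even j := even_iff_two_dvd.2 (dvd_trans (Dvd.intro _ rfl) h)
    rw [if_pos h3, mul_one, hTk]
    exact dvd_trans (Dvd.intro_left _ rfl) h

/-- invariance of the orthogonal complement under an isometry of finite order -/
theorem orth_invariant {B : LinearMap.BilinForm F V} {T : Module.End F V} (hT : Pres B T) {k : ℕ}
    (hk0 : 0 < k) (hTk : T ^ k = 1) {W : Submodule F V} (hW : ∀ a ∈ W, T a ∈ W) :
    ∀ b ∈ B.orthogonal W, T b ∈ B.orthogonal W := by
  intro b hb
  rw [LinearMap.BilinForm.mem_orthogonal_iff]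
  intro a ha
  have hWpow : ∀ (j : ℕ), ∀ a ∈ W, (T ^ j) a ∈ W := by
    intro j
    induction j with
    | zero => intro a ha; simpa using ha
    | succ i ih => intro a ha; rw [pow_succ, Module.End.mul_apply]; exact ih _ (hW a ha)
  have h1 : a = T ((T ^ (k - 1)) a) := by
    rw [← Module.End.mul_apply, ← pow_succ', Nat.sub_add_cancel hk0, hTk, Module.End.one_apply]
  show B a (T b) = 0
  rw [h1, hT]
  exact (LinearMap.BilinForm.mem_orthogonal_iff.1 hb) _ (hWpow _ a ha)

/-- the doubling lemma for a proper nonzero nondegenerate invariant subspace -/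
theorem good_of_nondeg (h2 : (2 : F) ≠ 0) {n : ℕ} (hn : 1 ≤ n) (B : LinearMap.BilinForm F V)
    (hB : B.IsAlt) (hnd : ∀ a, (∀ b, B a b = 0) → a = 0) (hdim : finrank F V = 2 * n)
    (T : Module.End F V) (hT : Pres B T) {k : ℕ} (hk : Odd k) (hTk : ∀ j, T ^ j = 1 ↔ k ∣ j)
    (W : Submodule F V) (hW : ∀ a ∈ W, T a ∈ W)
    (hWnd : ∀ a ∈ W, (∀ b ∈ W, B a b = 0) → a = 0) (hW0 : W ≠ ⊥) (hW1 : W ≠ ⊤) :
    2 * k ∈ Set.range (orderOf : Cfsg.PSp n F → ℕ) := by
  have hdisj : Disjoint W (B.orthogonal W) := by
    rw [Submodule.disjoint_def]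
    intro a ha ha'
    apply hWnd a ha
    intro b hb
    rw [← hB.neg_eq, (LinearMap.BilinForm.mem_orthogonal_iff.1 ha') b hb, neg_zero]
  have hc : IsCompl W (B.orthogonal W) :=
    (LinearMap.BilinForm.isCompl_orthogonal_iff_disjoint hB.isRefl).2 hdisj
  have hk0 : 0 < k := hk.pos
  apply good_of_isCompl h2 hn B hB hnd hdim T hT hk hTk W (B.orthogonal W) hc
    (fun a ha b hb => (LinearMap.BilinForm.mem_orthogonal_iff.1 hb) a ha) hW
    (orth_invariant hT hk0 ((hTk k).2 dvd_rfl) hW) hW0
  intro h
  apply hW1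
  have := hc.sup_eq_top
  rwa [h, sup_bot_eq] at this

/-- the doubling lemma for the fixed space of a commuting semisimple isometry -/
theorem good_of_fix (h2 : (2 : F) ≠ 0) {n : ℕ} (hn : 1 ≤ n) (B : LinearMap.BilinForm F V)
    (hB : B.IsAlt) (hnd : ∀ a, (∀ b, B a b = 0) → a = 0) (hdim : finrank F V = 2 * n)
    (T : Module.End F V) (hT : Pres B T) {k : ℕ} (hk : Odd k) (hTk : ∀ j, T ^ j = 1 ↔ k ∣ j)
    (y : Module.End F V) (hy : Pres B y) (hcomm : Commute T y) {m : ℕ} (hym : y ^ m = 1)
    (hmF : (m : F) ≠ 0) (hfix : fixS y ≠ ⊥) (hy1 : y ≠ 1) :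
    2 * k ∈ Set.range (orderOf : Cfsg.PSp n F → ℕ) := by
  have hc := isCompl_fix_mov hym hmF
  apply good_of_isCompl h2 hn B hB hnd hdim T hT hk hTk (fixS y) (movS y) hc
    (fun a ha b hb => bil_fix_mov hy ha hb)
    (fun a ha => map_mem_fixS hcomm ha) (fun b hb => map_mem_movS hcomm hb) hfix
  intro h
  apply hy1
  have h3 : y - 1 = 0 := by
    rw [← LinearMap.range_eq_bot]
    exact h
  exact sub_eq_zero.1 h3

end main

end Cfsg.Agent.Lib.Helper5.PSpCube
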