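import Mathlib

/-!
Carve-out K4: the rank bound `e * rank (N^(e-1)) ≤ dim V` for a nilpotent map with `N^e = 0`.
-/

set_option autoImplicit false

namespace Cfsg.Agent.Lib.Carve

open Module

section

variable {F : Type*} [Field F] {V : Type*} [AddCommGroup V] [Module F V] [FiniteDimensional F V]

theorem K4.step (N : Module.End F V) (e j : ℕ) (he : N ^ e = 0) (hj : j + 1 ≤ e) :
    finrank F (LinearMap.range (N ^ (j + 1))) + finrank F (LinearMap.range (N ^ (e - 1))) ≤
      finrank F (LinearMap.range (N ^ j)) := by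
  set A := LinearMap.range (N ^ j) with hA
  let φ : ↥A →ₗ[F] V := (N ^ (e - 1 - j)).domRestrict A
  have h1 := LinearMap.finrank_range_add_finrank_ker φ
  have h2 : LinearMap.range φ = LinearMap.range (N ^ (e - 1)) := by
    have h4 : N ^ (e - 1) = (N ^ (e - 1 - j)) ∘ₗ (N ^ j) := by
      rw [← Module.End.mul_eq_comp, ← pow_add]
      congr 1
      omega
    rw [LinearMap.range_domRestrict, h4, LinearMap.range_comp]
  have hle : LinearMap.range (N ^ (j + 1)) ≤ A := by
    rintro a ⟨z, rfl⟩
    exact ⟨N z, by rw [pow_succ, Module.End.mul_apply]⟩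
  have hker : LinearMap.range (N ^ (j + 1)) ≤ LinearMap.ker (N ^ (e - 1 - j)) := by
    rintro a ⟨z, rfl⟩
    rw [LinearMap.mem_ker, ← Module.End.mul_apply, ← pow_add]
    have : e - 1 - j + (j + 1) = e := by omega
    rw [this, he, LinearMap.zero_apply]
  have h3 : finrank F (LinearMap.range (N ^ (j + 1))) ≤ finrank F (LinearMap.ker φ) := by
    rw [LinearMap.ker_domRestrict]
    rw [← (Submodule.comapSubtypeEquivOfLe hle).finrank_eq]
    exact Submodule.finrank_mono (Submodule.comap_mono hker)
  rw [h2] at h1
  omega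

theorem K4.chain_aux (N : Module.End F V) (e : ℕ) (he : N ^ e = 0) (i : ℕ) (hi : i + 1 ≤ e) :
    (i + 1) * finrank F (LinearMap.range (N ^ (e - 1))) ≤
      finrank F (LinearMap.range (N ^ (e - 1 - i))) := by
  induction i with
  | zero => simp
  | succ l ih =>
    have h1 := ih (by omega)
    have h2 := K4.step N e (e - 1 - (l + 1)) he (by omega)
    have h3 : e - 1 - (l + 1) + 1 = e - 1 - l := by omega
    rw [h3] at h2
    have h4 : (l + 1 + 1) * finrank F (LinearMap.range (N ^ (e - 1))) =
        (l + 1) * finrank F (LinearMap.range (N ^ (e - 1))) +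
          finrank F (LinearMap.range (N ^ (e - 1))) := by ring
    omega

/-- K4: rank bound for a nilpotent map. -/
theorem K4.chain_bound (N : Module.End F V) (e : ℕ) (he : N ^ e = 0) (hpos : 1 ≤ e) :
    e * finrank F (LinearMap.range (N ^ (e - 1))) ≤ finrank F V := by
  have h1 := K4.chain_aux N e he (e - 1) (by omega)
  have h2 : e - 1 + 1 = e := by omega
  have h3 : e - 1 - (e - 1) = 0 := by omega
  rw [h2, h3, pow_zero] at h1
  have h4 : finrank F (LinearMap.range (1 : Module.End F V)) = finrank F V := by
    rw [Module.End.one_eq_id, LinearMap.range_id, finrank_top]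
  rwa [h4] at h1

end

end Cfsg.Agent.Lib.Carve
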