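import Mathlib
import Cfsg.Agent.Lib.Helper5.PGBC.Trans2

/-!
The form induced on (a complement of the kernel of) the top power `M = (u - 1)^(e-1)` of a
unipotent isometry `u`: `(a, b) ↦ B₀ a (M b)`.
-/

set_option autoImplicit false

namespace Cfsg.Agent.Lib.Helper5.PSpCube

open Module Cfsg.Agent.Lib.Helper5.PGBC Cfsg.Agent.Lib.Helper5.SpecBC

variable {F : Type*} [Field F] {V : Type*} [AddCommGroup V] [Module F V]

theorem adj_sub_one {B₀ : LinearMap.BilinForm F V} {u : Module.End F V} (hu : Pres B₀ u)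
    (a b : V) : B₀ ((u - 1) a) b = - B₀ (u a) ((u - 1) b) := by
  simp only [LinearMap.sub_apply, Module.End.one_apply, map_sub, hu a b]
  ring

theorem adj_sub_one_pow {B₀ : LinearMap.BilinForm F V} {u : Module.End F V} (hu : Pres B₀ u)
    (i : ℕ) (a b : V) :
    B₀ (((u - 1) ^ i) a) b = (-1) ^ i * B₀ ((u ^ i) a) (((u - 1) ^ i) b) := by
  induction i generalizing a b with
  | zero => simp
  | succ l ih =>
    have hc : Commute (u ^ l) (u - 1) :=
      ((Commute.refl u).sub_right (Commute.one_right u)).pow_left l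
    have h1 : (u ^ l) ((u - 1) a) = (u - 1) ((u ^ l) a) := by
      rw [← Module.End.mul_apply, ← Module.End.mul_apply, hc.eq]
    have hL : ((u - 1) ^ (l + 1)) a = ((u - 1) ^ l) ((u - 1) a) := by
      rw [pow_succ, Module.End.mul_apply]
    have hR : ((u - 1) ^ (l + 1)) b = (u - 1) (((u - 1) ^ l) b) := by
      rw [pow_succ', Module.End.mul_apply]
    have hU : (u ^ (l + 1)) a = u ((u ^ l) a) := by
      rw [pow_succ', Module.End.mul_apply]
    rw [hL, ih, h1, adj_sub_one hu, hR, hU, pow_succ]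
    ring

/-- the top power is self-adjoint up to sign -/
theorem adj_top {B₀ : LinearMap.BilinForm F V} {u : Module.End F V} (hu : Pres B₀ u) {e : ℕ}
    (he : (u - 1) ^ e = 0) (hpos : 1 ≤ e) (a b : V) :
    B₀ (((u - 1) ^ (e - 1)) a) b = (-1) ^ (e - 1) * B₀ a (((u - 1) ^ (e - 1)) b) := by
  rw [adj_sub_one_pow hu]
  congr 1
  have h1 : u (((u - 1) ^ (e - 1)) b) = ((u - 1) ^ (e - 1)) b := by
    have h3 : ((u - 1) * (u - 1) ^ (e - 1)) b = 0 := by
      rw [← pow_succ', Nat.sub_add_cancel hpos, he, LinearMap.zero_apply]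
    rw [Module.End.mul_apply, LinearMap.sub_apply, Module.End.one_apply, sub_eq_zero] at h3
    exact h3
  have h4 : (u ^ (e - 1)) (((u - 1) ^ (e - 1)) b) = ((u - 1) ^ (e - 1)) b :=
    pow_apply_of_fix h1 _
  nth_rewrite 1 [← h4]
  exact (hu.pow (e - 1)) _ _

/-- the induced form -/
noncomputable def rangeForm (B₀ : LinearMap.BilinForm F V) (M : Module.End F V)
    (C : Submodule F V) : LinearMap.BilinForm F ↥C :=
  (B₀.compRight M).restrict C

theorem rangeForm_apply (B₀ : LinearMap.BilinForm F V) (M : Module.End F V) (C : Submodule F V)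
    (a b : ↥C) : rangeForm B₀ M C a b = B₀ (a : V) (M (b : V)) := rfl

theorem rangeForm_swap {B₀ : LinearMap.BilinForm F V} {u : Module.End F V} (hu : Pres B₀ u)
    {e : ℕ} (he : (u - 1) ^ e = 0) (hpos : 1 ≤ e) {ε : F} (hε : ∀ a b, B₀ b a = ε * B₀ a b)
    (C : Submodule F V) (a b : ↥C) :
    rangeForm B₀ ((u - 1) ^ (e - 1)) C b a =
      ε * (-1) ^ (e - 1) * rangeForm B₀ ((u - 1) ^ (e - 1)) C a b := by
  rw [rangeForm_apply, rangeForm_apply, hε, adj_top hu he hpos]
  ring

theorem rangeForm_nondeg {B₀ : LinearMap.BilinForm F V} {u : Module.End F V} (hu : Pres B₀ u)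
    {e : ℕ} (he : (u - 1) ^ e = 0) (hpos : 1 ≤ e) (hnd : ∀ a, (∀ b, B₀ a b = 0) → a = 0)
    {C : Submodule F V} (hc : IsCompl (LinearMap.ker ((u - 1) ^ (e - 1))) C) (a : ↥C)
    (ha : ∀ b, rangeForm B₀ ((u - 1) ^ (e - 1)) C a b = 0) : a = 0 := by
  set M := (u - 1) ^ (e - 1) with hM
  have h1 : ∀ z : V, B₀ (a : V) (M z) = 0 := by
    intro z
    have hz : z ∈ LinearMap.ker M ⊔ C := by rw [hc.sup_eq_top]; trivial
    obtain ⟨k, hk, b, hb, rfl⟩ := Submodule.mem_sup.1 hz
    rw [map_add, LinearMap.mem_ker.1 hk, zero_add]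
    exact ha ⟨b, hb⟩
  have h3 : M (a : V) = 0 := by
    apply hnd
    intro z
    rw [hM, adj_top hu he hpos, ← hM, h1, mul_zero]
  have h4 : (a : V) ∈ LinearMap.ker M ⊓ C := ⟨LinearMap.mem_ker.2 h3, a.2⟩
  rw [hc.inf_eq_bot] at h4
  exact Subtype.ext ((Submodule.mem_bot F).1 h4)

theorem rangeForm_pres {B₀ : LinearMap.BilinForm F V} {M y : Module.End F V} (hy : Pres B₀ y)
    (hcomm : Commute y M) {C : Submodule F V} {y' : Module.End F ↥C}
    (hy' : ∀ w, ((y' w : ↥C) : V) = y w) : Pres (rangeForm B₀ M C) y' := by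
  intro a b
  rw [rangeForm_apply, rangeForm_apply, hy', hy', ← Module.End.mul_apply M y, ← hcomm.eq,
    Module.End.mul_apply, hy]

theorem finrank_compl_ker [FiniteDimensional F V] (M : Module.End F V) {C : Submodule F V}
    (hc : IsCompl (LinearMap.ker M) C) : finrank F ↥C = finrank F ↥(LinearMap.range M) := by
  have h1 := LinearMap.finrank_range_add_finrank_ker M
  have h3 := Submodule.finrank_add_eq_of_isCompl hc
  omega

/-- a map commuting with `M` and stabilising `C` is trivial on `C` iff it is trivial on the range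
of `M` -/
theorem fix_compl_iff_fix_range {M y : Module.End F V} (hcomm : Commute y M) {C : Submodule F V}
    (hc : IsCompl (LinearMap.ker M) C) (hC : ∀ c ∈ C, y c ∈ C) :
    (∀ c ∈ C, y c = c) ↔ ∀ a ∈ LinearMap.range M, y a = a := by
  constructor
  · rintro h a ⟨z, rfl⟩
    have hz : z ∈ LinearMap.ker M ⊔ C := by rw [hc.sup_eq_top]; trivial
    obtain ⟨k, hk, b, hb, rfl⟩ := Submodule.mem_sup.1 hz
    rw [map_add, LinearMap.mem_ker.1 hk, zero_add, ← Module.End.mul_apply, hcomm.eq,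
      Module.End.mul_apply, h b hb]
  · intro h c hcC
    have h1 : y c - c ∈ LinearMap.ker M ⊓ C := by
      refine Submodule.mem_inf.2 ⟨?_, C.sub_mem (hC c hcC) hcC⟩
      rw [LinearMap.mem_ker, map_sub, ← Module.End.mul_apply, ← hcomm.eq, Module.End.mul_apply,
        h _ ⟨c, rfl⟩, sub_self]
    rw [hc.inf_eq_bot] at h1
    exact sub_eq_zero.1 ((Submodule.mem_bot F).1 h1)

end Cfsg.Agent.Lib.Helper5.PSpCube
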