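import Mathlib
import Cfsg.Agent.Lib.Helper5.PGBC.Trans

/-!
Carve-out K1: a regular unipotent isometry of a symplectic space of dimension `2m`, realised as the
element `[[1, S], [1, 1 + S]]` of `SL₂(R)`, `R = F[S]/(S^m)`, acting on `R × R` with the form
`ρ (f g' - g f')`, `ρ` the top coefficient.
-/

set_option autoImplicit false

namespace Cfsg.Agent.Lib.Carve

open Module Polynomial Cfsg.Agent.Lib.Helper5.PGBC

universe u

namespace K1

variable (F : Type u) [Field F] (m : ℕ)

/-- the truncated polynomial ring -/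
abbrev RR : Type u := AdjoinRoot (X ^ m : F[X])

/-- the nilpotent generator -/
noncomputable def S : RR F m := AdjoinRoot.root _

theorem S_eq_mk : S F m = AdjoinRoot.mk _ X := (AdjoinRoot.mk_X).symm

theorem S_pow_eq_mk (j : ℕ) : S F m ^ j = AdjoinRoot.mk _ (X ^ j) := by
  rw [S_eq_mk, map_pow]

theorem S_pow_top : S F m ^ m = 0 := by
  rw [S_pow_eq_mk, AdjoinRoot.mk_self]

theorem S_pow_pred_ne (hm : 1 ≤ m) : S F m ^ (m - 1) ≠ 0 := by
  rw [S_pow_eq_mk, Ne, AdjoinRoot.mk_eq_zero,
    pow_dvd_pow_iff (X_ne_zero (R := F)) (not_isUnit_X (R := F))]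
  omega

theorem coeff_modByMonic_X_pow (f : F[X]) {j : ℕ} (hj : j < m) :
    (f %ₘ (X ^ m : F[X])).coeff j = f.coeff j := by
  have h1 := modByMonic_add_div f (X ^ m : F[X])
  have h3 := congrArg (fun g : F[X] => g.coeff j) h1
  simp only [coeff_add, coeff_X_pow_mul', if_neg (not_le.2 hj), add_zero] at h3
  exact h3

/-- the top coefficient -/
noncomputable def rho : RR F m →ₗ[F] F :=
  (Polynomial.lcoeff F (m - 1)) ∘ₗ (AdjoinRoot.modByMonicHom (monic_X_pow (R := F) m))

theorem rho_mk (hm : 1 ≤ m) (f : F[X]) : rho F m (AdjoinRoot.mk _ f) = f.coeff (m - 1) := by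
  simp only [rho, LinearMap.comp_apply, AdjoinRoot.modByMonicHom_mk, lcoeff_apply]
  exact coeff_modByMonic_X_pow F m f (by omega)

theorem rho_nondeg (hm : 1 ≤ m) (a : RR F m) (h : ∀ b, rho F m (a * b) = 0) : a = 0 := by
  by_contra ha
  have hg : (X ^ m : F[X]).Monic := monic_X_pow m
  set f := AdjoinRoot.modByMonicHom hg a with hf
  have haf : AdjoinRoot.mk _ f = a := AdjoinRoot.mk_leftInverse hg a
  have hf0 : f ≠ 0 := by
    intro h0
    apply ha
    rw [← haf, h0, map_zero]
  have hdeg : f.natDegree < m := by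
    have h1 : (X ^ m : F[X]) ≠ 1 := by
      intro h1
      have := congrArg natDegree h1
      rw [natDegree_X_pow, natDegree_one] at this
      omega
    have := natDegree_modByMonic_lt (AdjoinRoot.modByMonicHom hg a) hg h1
    have h3 : AdjoinRoot.modByMonicHom hg a %ₘ (X ^ m : F[X]) = AdjoinRoot.modByMonicHom hg a := by
      conv_lhs => rw [← AdjoinRoot.modByMonicHom_mk hg, AdjoinRoot.mk_leftInverse hg a]
    rw [h3, natDegree_X_pow] at this
    exact this
  have h1 := h (AdjoinRoot.mk _ (X ^ (m - 1 - f.natDegree)))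
  rw [← haf, ← map_mul, rho_mk F m hm, coeff_mul_X_pow', if_pos (by omega)] at h1
  have h3 : m - 1 - (m - 1 - f.natDegree) = f.natDegree := by omega
  rw [h3] at h1
  exact hf0 (leadingCoeff_eq_zero.1 h1)

/-- the pairing `ρ (a b)` -/
noncomputable def pairing : LinearMap.BilinForm F (RR F m) :=
  (LinearMap.mul F (RR F m)).compr₂ (rho F m)

theorem pairing_apply (a b : RR F m) : pairing F m a b = rho F m (a * b) := rfl

/-- the alternating form on `R × R` -/
noncomputable def form : LinearMap.BilinForm F (RR F m × RR F m) :=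
  (pairing F m).comp (LinearMap.fst F _ _) (LinearMap.snd F _ _) -
    (pairing F m).comp (LinearMap.snd F _ _) (LinearMap.fst F _ _)

theorem form_apply (v w : RR F m × RR F m) :
    form F m v w = rho F m (v.1 * w.2) - rho F m (v.2 * w.1) := rfl

theorem form_isAlt : (form F m).IsAlt := by
  intro v
  rw [form_apply, mul_comm, sub_self]

theorem form_nondeg (hm : 1 ≤ m) (v : RR F m × RR F m) (h : ∀ w, form F m v w = 0) : v = 0 := by
  apply Prod.ext
  · apply rho_nondeg F m hm
    intro b
    have := h (0, b)
    rw [form_apply] at this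
    simpa using this
  · apply rho_nondeg F m hm
    intro b
    have := h (b, 0)
    rw [form_apply] at this
    simpa using this

/-- the unipotent map -/
noncomputable def vMap : Module.End F (RR F m × RR F m) where
  toFun w := (w.1 + S F m * w.2, w.1 + w.2 + S F m * w.2)
  map_add' a b := by
    apply Prod.ext
    · simp only [Prod.fst_add, Prod.snd_add]; ring
    · simp only [Prod.fst_add, Prod.snd_add]; ring
  map_smul' c a := by
    apply Prod.ext
    · simp only [Prod.smul_fst, Prod.smul_snd, RingHom.id_apply, mul_smul_comm, smul_add]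
    · simp only [Prod.smul_fst, Prod.smul_snd, RingHom.id_apply, mul_smul_comm, smul_add]

theorem vMap_apply (w : RR F m × RR F m) :
    vMap F m w = (w.1 + S F m * w.2, w.1 + w.2 + S F m * w.2) := rfl

/-- the inverse of the unipotent map -/
noncomputable def vInv : Module.End F (RR F m × RR F m) where
  toFun w := ((1 + S F m) * w.1 - S F m * w.2, w.2 - w.1)
  map_add' a b := by
    apply Prod.ext
    · simp only [Prod.fst_add, Prod.snd_add]; ring
    · simp only [Prod.fst_add, Prod.snd_add]; ring
  map_smul' c a := by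
    apply Prod.ext
    · simp only [Prod.smul_fst, Prod.smul_snd, RingHom.id_apply, mul_smul_comm, smul_sub]
    · simp only [Prod.smul_fst, Prod.smul_snd, RingHom.id_apply, smul_sub]

theorem vInv_apply (w : RR F m × RR F m) :
    vInv F m w = ((1 + S F m) * w.1 - S F m * w.2, w.2 - w.1) := rfl

/-- multiplication by `S` -/
noncomputable def sMap : Module.End F (RR F m × RR F m) where
  toFun w := (S F m * w.1, S F m * w.2)
  map_add' a b := by
    apply Prod.ext
    · simp only [Prod.fst_add, Prod.snd_add]; ring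
    · simp only [Prod.fst_add, Prod.snd_add]; ring
  map_smul' c a := by
    apply Prod.ext
    · simp only [Prod.smul_fst, Prod.smul_snd, RingHom.id_apply, mul_smul_comm]
    · simp only [Prod.smul_fst, Prod.smul_snd, RingHom.id_apply, mul_smul_comm]

theorem sMap_apply (w : RR F m × RR F m) : sMap F m w = (S F m * w.1, S F m * w.2) := rfl

theorem sMap_pow_apply (j : ℕ) (w : RR F m × RR F m) :
    (sMap F m ^ j) w = (S F m ^ j * w.1, S F m ^ j * w.2) := by
  induction j generalizing w with
  | zero => simp
  | succ i ih =>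
    rw [pow_succ, Module.End.mul_apply, ih, sMap_apply]
    apply Prod.ext
    · simp only; ring
    · simp only; ring

theorem vMap_pres : Pres (form F m) (vMap F m) := by
  intro a b
  rw [form_apply, form_apply, vMap_apply, vMap_apply, ← map_sub, ← map_sub]
  congr 1
  simp only
  ring

theorem vMap_mul_vInv : vMap F m * vInv F m = 1 := by
  apply LinearMap.ext
  intro w
  rw [Module.End.mul_apply, vInv_apply, vMap_apply, Module.End.one_apply]
  apply Prod.ext
  · simp only; ring
  · simp only; ring

theorem vInv_mul_vMap : vInv F m * vMap F m = 1 := by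
  apply LinearMap.ext
  intro w
  rw [Module.End.mul_apply, vMap_apply, vInv_apply, Module.End.one_apply]
  apply Prod.ext
  · simp only; ring
  · simp only; ring

theorem sub_one_apply (w : RR F m × RR F m) :
    (vMap F m - 1) w = (S F m * w.2, w.1 + S F m * w.2) := by
  rw [LinearMap.sub_apply, Module.End.one_apply, vMap_apply]
  apply Prod.ext
  · simp only [Prod.fst_sub]; ring
  · simp only [Prod.snd_sub]; ring

theorem sub_one_sq : (vMap F m - 1) * (vMap F m - 1) = sMap F m * vMap F m := by
  apply LinearMap.ext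
  intro w
  rw [Module.End.mul_apply, sub_one_apply, sub_one_apply, Module.End.mul_apply, vMap_apply,
    sMap_apply]
  apply Prod.ext
  · ring
  · simp only; ring

theorem sMap_commute : Commute (sMap F m) (vMap F m) := by
  apply LinearMap.ext
  intro w
  rw [Module.End.mul_apply, Module.End.mul_apply, vMap_apply, sMap_apply, sMap_apply, vMap_apply]
  apply Prod.ext
  · simp only; ring
  · simp only; ring

theorem sub_one_pow_even (j : ℕ) :
    (vMap F m - 1) ^ (2 * j) = sMap F m ^ j * vMap F m ^ j := by
  rw [pow_mul, pow_two, sub_one_sq, (sMap_commute F m).mul_pow]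

theorem sub_one_pow_top : (vMap F m - 1) ^ (2 * m) = 0 := by
  rw [sub_one_pow_even]
  have h1 : sMap F m ^ m = 0 := by
    apply LinearMap.ext
    intro w
    rw [sMap_pow_apply, S_pow_top]
    simp
  rw [h1, zero_mul]

theorem sub_one_pow_pred_ne (hm : 1 ≤ m) : (vMap F m - 1) ^ (2 * m - 1) ≠ 0 := by
  intro h
  have h1 : (vMap F m - 1) ^ (2 * m - 1) * vInv F m ^ (m - 1) =
      (vMap F m - 1) * sMap F m ^ (m - 1) := by
    have h3 : 2 * m - 1 = 1 + 2 * (m - 1) := by omega
    rw [h3, pow_add, pow_one, sub_one_pow_even, mul_assoc, mul_assoc]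
    congr 2
    have hc : Commute (vMap F m) (vInv F m) := by
      rw [Commute, SemiconjBy, vMap_mul_vInv, vInv_mul_vMap]
    rw [← hc.mul_pow, vMap_mul_vInv, one_pow, mul_one]
  rw [h, zero_mul] at h1
  have h4 := congrArg (fun f : Module.End F (RR F m × RR F m) => (f ((1 : RR F m), (0 : RR F m))).2)
    h1
  simp only [LinearMap.zero_apply, Prod.snd_zero, Module.End.mul_apply, sMap_pow_apply,
    sub_one_apply, mul_one, mul_zero, add_zero] at h4
  exact S_pow_pred_ne F m hm h4.symm

theorem finrank_RR : finrank F (RR F m) = m := by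
  rw [(AdjoinRoot.powerBasis' (monic_X_pow (R := F) m)).finrank, AdjoinRoot.powerBasis'_dim,
    natDegree_X_pow]

/-- K1: regular unipotent isometry of a symplectic space of dim `2m` (any field). -/
theorem exists_reg_unip {F : Type u} [Field F] (m : ℕ) (hm : 1 ≤ m) :
    ∃ (W : Type u) (_ : AddCommGroup W) (_ : Module F W) (_ : FiniteDimensional F W)
      (A : LinearMap.BilinForm F W) (v : Module.End F W),
      A.IsAlt ∧ (∀ x, (∀ y, A x y = 0) → x = 0) ∧ finrank F W = 2 * m ∧ Pres A v ∧
      (v - 1) ^ (2 * m) = 0 ∧ (v - 1) ^ (2 * m - 1) ≠ 0 := by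
  have hfin : FiniteDimensional F (RR F m) :=
    (AdjoinRoot.powerBasis' (monic_X_pow (R := F) m)).finite
  refine ⟨RR F m × RR F m, inferInstance, inferInstance, inferInstance, form F m, vMap F m,
    form_isAlt F m, form_nondeg F m hm, ?_, vMap_pres F m, sub_one_pow_top F m,
    sub_one_pow_pred_ne F m hm⟩
  rw [Module.finrank_prod, finrank_RR]
  ring

end K1

end Cfsg.Agent.Lib.Carve
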