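import Mathlib
import Cfsg.Agent.Lib.Helper5.Cube.Decomp
import Cfsg.Agent.Lib.Helper5.Cube.CarveK1

/-!
The basic construction: `(-x₀) ⊕ (regular unipotent)`.
-/

set_option autoImplicit false

namespace Cfsg.Agent.Lib.Helper5.PSpCube

open Module Cfsg.Agent.Lib.Helper5.PGBC Cfsg.Agent.Lib.Helper5.SpecBC
  Cfsg.Agent.Lib.Helper5.SylTor

/-- divisors of element orders are element orders -/
theorem dvd_mem_range_orderOf {G : Type*} [Monoid G] {m d : ℕ}
    (hm : m ∈ Set.range (orderOf : G → ℕ)) (hd : d ∣ m) (hm0 : 0 < m) :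
    d ∈ Set.range (orderOf : G → ℕ) := by
  obtain ⟨g, rfl⟩ := hm
  obtain ⟨c, hc⟩ := hd
  have hc0 : c ≠ 0 := by
    rintro rfl
    rw [mul_zero] at hc
    omega
  refine ⟨g ^ c, ?_⟩
  rw [orderOf_pow_of_dvd hc0 ⟨d, by rw [hc, mul_comm]⟩, hc]
  exact Nat.mul_div_cancel _ (Nat.pos_of_ne_zero hc0)

section unip

variable {F : Type*} [Field F] {R : Type*} [AddCommGroup R] [Module F R]

/-- in characteristic `p`, `(v - 1)^(p^i) = v^(p^i) - 1` -/
theorem sub_one_pow_char_pow (p : ℕ) [hp : Fact p.Prime] [CharP F p] [Nontrivial R]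
    (v : Module.End F R) (i : ℕ) : (v - 1) ^ (p ^ i) = v ^ (p ^ i) - 1 := by
  have : CharP (Module.End F R) p :=
    charP_of_injective_algebraMap (algebraMap F (Module.End F R)).injective p
  rw [sub_pow_char_pow_of_commute p i (Commute.one_right v), one_pow]

/-- the order of a unipotent map is a power of `p`, at least `p^t` when `p^(t-1)` is smaller than
the nilpotency index -/
theorem unip_order (p : ℕ) [hp : Fact p.Prime] [CharP F p] [Nontrivial R]
    (v : Module.End F R) {e : ℕ} (he : (v - 1) ^ e = 0) (he' : (v - 1) ^ (e - 1) ≠ 0) {t : ℕ}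
    (ht : 1 ≤ t) (hte : p ^ (t - 1) < e) :
    ∃ t', t ≤ t' ∧ ∀ j : ℕ, v ^ j = 1 ↔ p ^ t' ∣ j := by
  have hpow : ∃ M : ℕ, v ^ (p ^ M) = 1 := by
    refine ⟨e, ?_⟩
    have h1 : (v - 1) ^ (p ^ e) = 0 := by
      have h3 : e ≤ p ^ e := (Nat.lt_pow_self hp.out.one_lt).le
      rw [← Nat.sub_add_cancel h3, pow_add, he, mul_zero]
    rw [sub_one_pow_char_pow p v e, sub_eq_zero] at h1
    exact h1
  obtain ⟨M, hM⟩ := hpow
  have hdvd : orderOf v ∣ p ^ M := orderOf_dvd_of_pow_eq_one hM
  obtain ⟨t', -, ht'⟩ := (Nat.dvd_prime_pow hp.out).1 hdvd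
  refine ⟨t', ?_, ?_⟩
  · by_contra hlt
    push Not at hlt
    have h1 : v ^ (p ^ (t - 1)) = 1 := by
      rw [← orderOf_dvd_iff_pow_eq_one, ht']
      exact pow_dvd_pow p (by omega)
    have h3 : (v - 1) ^ (p ^ (t - 1)) = 0 := by
      rw [sub_one_pow_char_pow p v (t - 1), h1, sub_self]
    apply he'
    have h4 : p ^ (t - 1) ≤ e - 1 := by omega
    rw [← Nat.sub_add_cancel h4, pow_add, h3, mul_zero]
  · intro j
    rw [← orderOf_dvd_iff_pow_eq_one, ht']

end unip

section construct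

variable {F : Type*} [Field F] [Fintype F] {W : Type*} [AddCommGroup W] [Module F W]
  [FiniteDimensional F W]

/-- **Basic construction.** Given an isometry `x₀` of odd order `s` of a nonzero symplectic space
of codimension `2m ≥ 2` in dimension `2n`, and `p^(t-1) < 2m`, the group `PSp_{2n}` has an
element of order `2 * s * p^t`. -/
theorem construct (p : ℕ) [hp : Fact p.Prime] [CharP F p] (h2 : (2 : F) ≠ 0) {n : ℕ}
    (hn : 1 ≤ n) [Nontrivial W] (A : LinearMap.BilinForm F W) (hA : A.IsAlt)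
    (hnd : ∀ x, (∀ y, A x y = 0) → x = 0) {m : ℕ} (hm : 1 ≤ m)
    (hdim : finrank F W + 2 * m = 2 * n)
    (x₀ : Module.End F W) (hx₀ : Pres A x₀) {s : ℕ} (hodd : Odd s) (hsp : Nat.Coprime s p)
    (hs : ∀ j : ℕ, x₀ ^ j = 1 ↔ s ∣ j) {t : ℕ} (ht : 1 ≤ t) (htm : p ^ (t - 1) < 2 * m) :
    2 * s * p ^ t ∈ Set.range (orderOf : Cfsg.PSp n F → ℕ) := by
  obtain ⟨R, i1, i2, i3, C, v, hC, hCnd, hRdim, hv, hv1, hv2⟩ :=
    Cfsg.Agent.Lib.Carve.K1.exists_reg_unip (F := F) m hm
  have hRnt : Nontrivial R := by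
    apply Module.nontrivial_of_finrank_pos (R := F)
    rw [hRdim]
    omega
  obtain ⟨t', htt', hvord⟩ := unip_order p v hv1 hv2 ht htm
  have hpodd : Odd p := by
    rcases hp.out.eq_two_or_odd' with h | h
    · exfalso
      apply h2
      have := CharP.cast_eq_zero F p
      rw [h] at this
      exact_mod_cast this
    · exact h
  have hx₀s : x₀ ^ s = 1 := (hs s).2 dvd_rfl
  have hnegpres : Pres A (-x₀) := by
    intro a b
    simp only [LinearMap.neg_apply, map_neg, neg_neg]
    exact hx₀ a b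
  have hmain : 2 * s * p ^ t' ∈ Set.range (orderOf : Cfsg.PSp n F → ℕ) := by
    apply psp_of_abstract hn (prodForm A C) (prodForm_isAlt hA hC) (prodForm_nondeg hnd hCnd)
      (by rw [Module.finrank_prod, hRdim, hdim])
      (LinearMap.prodMap (-x₀) v) (hnegpres.prod hv)
    intro j
    rw [prodMap_pow', prodMap_eq_one_iff, prodMap_eq_neg_one_iff, hvord]
    have hcop1 : Nat.Coprime 2 s := (Nat.coprime_two_left).2 hodd
    have hcop2 : Nat.Coprime (2 * s) (p ^ t') := by
      apply Nat.Coprime.pow_right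
      apply Nat.Coprime.mul_left
      · exact (Nat.coprime_two_left).2 hpodd
      · exact hsp
    have hnegpow : (-x₀) ^ j = (-1 : Module.End F W) ^ j * x₀ ^ j := by
      rw [← neg_one_mul x₀, (Commute.neg_one_left x₀).mul_pow]
    constructor
    · rintro (⟨h1, h3⟩ | ⟨h1, h3⟩)
      · -- `j` is even
        have heven : Even j := by
          by_contra hj
          have hj' : Odd j := Nat.not_even_iff_odd.1 hj
          rw [hnegpow, hj'.neg_one_pow, neg_one_mul, neg_eq_iff_eq_neg] at h1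
          obtain ⟨w, hw⟩ := exists_ne (0 : W)
          apply hw
          apply no_neg_fix h2 hodd hx₀s (j := j)
          rw [h1]
          simp
        rw [hnegpow, heven.neg_one_pow, one_mul, hs] at h1
        exact Nat.Coprime.mul_dvd_of_dvd_of_dvd hcop2
          (Nat.Coprime.mul_dvd_of_dvd_of_dvd hcop1 (even_iff_two_dvd.1 heven) h1) h3
      · exfalso
        -- `v^j = -1` is impossible
        have hvt : v ^ (p ^ t') = 1 := (hvord _).2 dvd_rfl
        obtain ⟨w, hw⟩ := exists_ne (0 : R)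
        apply hw
        apply no_neg_fix h2 (hpodd.pow (n := t')) hvt (j := j)
        rw [h3]
        simp
    · intro h
      left
      have hj2 : 2 ∣ j := dvd_trans (Dvd.intro _ rfl) (dvd_trans (Dvd.intro _ rfl) h)
      have hjs : s ∣ j := dvd_trans (Dvd.intro_left _ rfl) (dvd_trans (Dvd.intro _ rfl) h)
      refine ⟨?_, dvd_trans (Dvd.intro_left _ rfl) h⟩
      rw [hnegpow, (even_iff_two_dvd.2 hj2).neg_one_pow, one_mul, hs]
      exact hjs
  apply dvd_mem_range_orderOf hmain
  · exact Nat.mul_dvd_mul_left _ (pow_dvd_pow p htt')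
  · have := hodd.pos
    have := hp.out.pos
    positivity

end construct

end Cfsg.Agent.Lib.Helper5.PSpCube
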