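import Mathlib
import Cfsg.Agent.Lib.Helper5.Cube.Construct
import Cfsg.Agent.Lib.Helper5.PGBC.CaseCSp

/-!
The involution of `PSp_{2n}`, `n ≥ 2`, and the purely unipotent case.
-/

set_option autoImplicit false

namespace Cfsg.Agent.Lib.Helper5.PSpCube

open Module Cfsg.Agent.Lib.Helper5.PGBC Cfsg.Agent.Lib.Helper5.SpecBC
  Cfsg.Agent.Lib.Helper5.SylTor

section

variable {F : Type*} [Field F] [Fintype F]

/-- `PSp_{2n}`, `n ≥ 2`, odd characteristic, has an involution -/
theorem two_mem (h2 : (2 : F) ≠ 0) {n : ℕ} (hn : 2 ≤ n) :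
    2 ∈ Set.range (orderOf : Cfsg.PSp n F → ℕ) := by
  have hnt1 : Nontrivial (Fin 1 → F × F) := inferInstance
  have hnt2 : Nontrivial (Fin (n - 1) → F × F) := by
    have : Nonempty (Fin (n - 1)) := ⟨⟨0, by omega⟩⟩
    infer_instance
  have hpres : Pres (aPad F (n - 1)) (-1 : Module.End F (Fin (n - 1) → F × F)) := by
    intro a b
    simp
  apply psp_of_abstract (by omega : 1 ≤ n) (prodForm (aPad F 1) (aPad F (n - 1)))
    (prodForm_isAlt (aPad_isAlt F 1) (aPad_isAlt F (n - 1)))
    (prodForm_nondeg (aPad_nondeg F 1) (aPad_nondeg F (n - 1)))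
    (by rw [Module.finrank_prod, finrank_aPad, finrank_aPad]; omega)
    (LinearMap.prodMap (1 : Module.End F (Fin 1 → F × F))
      (-1 : Module.End F (Fin (n - 1) → F × F))) ((Pres.one _).prod hpres)
  intro j
  rw [prodMap_pow', prodMap_eq_one_iff, prodMap_eq_neg_one_iff, one_pow,
    (neg_one_pow_end (F := F) (M := Fin (n - 1) → F × F) h2 j).1,
    (neg_one_pow_end (F := F) (M := Fin (n - 1) → F × F) h2 j).2, even_iff_two_dvd]
  constructor
  · rintro (⟨-, h⟩ | ⟨h, -⟩)
    · exact h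
    · exact absurd h (one_ne_neg_one_end (F := F) (V := Fin 1 → F × F) h2)
  · intro h
    exact Or.inl ⟨rfl, h⟩

variable {V : Type*} [AddCommGroup V] [Module F V] [FiniteDimensional F V]

/-- a nilpotent endomorphism vanishes in the power `dim V` -/
theorem nilpotent_pow_finrank {N : Module.End F V} (h : IsNilpotent N) :
    N ^ finrank F V = 0 := by
  have h1 := LinearMap.aeval_self_charpoly N
  rw [IsNilpotent.charpoly_eq_X_pow_finrank h] at h1
  simpa using h1

/-- **Unipotent case.** -/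
theorem unip_case (p : ℕ) [hp : Fact p.Prime] [CharP F p] (h2 : (2 : F) ≠ 0) {n : ℕ}
    (hn : 1 ≤ n) (B : LinearMap.BilinForm F V) (hdim : finrank F V = 2 * n)
    (T : Module.End F V) {t : ℕ} (ht : 1 ≤ t) (hTk : ∀ j, T ^ j = 1 ↔ p ^ t ∣ j) :
    2 * p ^ t ∈ Set.range (orderOf : Cfsg.PSp n F → ℕ) ∨ p ^ (t - 1) = 2 * n - 1 := by
  have hVnt : Nontrivial V := by
    apply Module.nontrivial_of_finrank_pos (R := F)
    rw [hdim]
    omega
  have hpodd : Odd p := by
    rcases hp.out.eq_two_or_odd' with h | h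
    · exfalso
      apply h2
      have := CharP.cast_eq_zero F p
      rw [h] at this
      exact_mod_cast this
    · exact h
  have h1 : (T - 1) ^ (p ^ t) = 0 := by
    rw [sub_one_pow_char_pow p T t, (hTk _).2 dvd_rfl, sub_self]
  have h3 : (T - 1) ^ (2 * n) = 0 := by
    rw [← hdim]
    exact nilpotent_pow_finrank ⟨_, h1⟩
  have h4 : p ^ (t - 1) < 2 * n := by
    by_contra hcon
    push Not at hcon
    have h5 : (T - 1) ^ (p ^ (t - 1)) = 0 := by
      rw [← Nat.sub_add_cancel hcon, pow_add, h3, mul_zero]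
    rw [sub_one_pow_char_pow p T (t - 1), sub_eq_zero, hTk] at h5
    have h6 := Nat.le_of_dvd (pow_pos hp.out.pos _) h5
    have h7 : p ^ (t - 1) < p ^ t := Nat.pow_lt_pow_right hp.out.one_lt (by omega)
    omega
  by_cases h5 : p ^ (t - 1) = 2 * n - 1
  · exact Or.inr h5
  · left
    have h6 : Odd (p ^ (t - 1)) := hpodd.pow
    have h7 : p ^ (t - 1) < 2 * (n - 1) := by
      obtain ⟨c, hc⟩ := h6
      omega
    have hnt1 : Nontrivial (Fin 1 → F × F) := inferInstance
    have h8 := construct p h2 hn (aPad F 1) (aPad_isAlt F 1) (aPad_nondeg F 1) (m := n - 1)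
      (by omega) (by rw [finrank_aPad]; omega) (1 : Module.End F (Fin 1 → F × F)) (Pres.one _)
      (s := 1) odd_one (Nat.coprime_one_left p) (by intro j; simp) ht h7
    rwa [mul_one] at h8

end

end Cfsg.Agent.Lib.Helper5.PSpCube
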