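import Mathlib
import Cfsg.Agent.Lib.Helper5.Cube.Unip
import Cfsg.Agent.Lib.Helper5.Cube.RangeForm
import Cfsg.Agent.Lib.Helper5.AltForm
import Cfsg.Agent.Lib.Helper5.Cube.CarveK4

/-!
The mixed case: an isometry of odd order `s * p^t` with `s > 1`, `t ≥ 1`.
-/

set_option autoImplicit false

namespace Cfsg.Agent.Lib.Helper5.PSpCube

open Module Polynomial Cfsg.Agent.Lib.Helper5.PGBC Cfsg.Agent.Lib.Helper5.SpecBC
  Cfsg.Agent.Lib.Helper5.SylTor

section forms

variable {F : Type*} [Field F] {V : Type*} [AddCommGroup V] [Module F V] [FiniteDimensional F V]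

/-- a form of prescribed symmetry type preserved by the centraliser of `x` -/
theorem exists_form (h2 : (2 : F) ≠ 0) (B : LinearMap.BilinForm F V) (hB : B.IsAlt)
    (hnd : ∀ a, (∀ b, B a b = 0) → a = 0) {x : Module.End F V} (hx : Pres B x) {s : ℕ}
    (hxs : x ^ s = 1) (hsF : (s : F) ≠ 0) (hodd : Odd s) (hfix : fixS x = ⊥) (i : ℕ) :
    ∃ (B₀ : LinearMap.BilinForm F V) (ε : F), (∀ a b, B₀ b a = ε * B₀ a b) ∧
      ε * (-1) ^ i = -1 ∧ (∀ a, (∀ b, B₀ a b = 0) → a = 0) ∧
      ∀ y : Module.End F V, Pres B y → Commute y x → Pres B₀ y := by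
  rcases Nat.even_or_odd i with hi | hi
  · refine ⟨B, -1, ?_, ?_, hnd, fun y hy _ => hy⟩
    · intro a b
      rw [neg_one_mul, hB.neg_eq]
    · rw [hi.neg_one_pow, mul_one]
  · have hs0 : 0 < s := hodd.pos
    have hmov : movS x = ⊤ := by
      have hc := isCompl_fix_mov hxs hsF
      have := hc.sup_eq_top
      rwa [hfix, bot_sup_eq] at this
    refine ⟨B.compRight (dmap x s), 1, ?_, ?_, ?_, ?_⟩
    · intro a b
      rw [LinearMap.BilinForm.compRight_apply, LinearMap.BilinForm.compRight_apply, one_mul,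
        ← hB.neg_eq, dmap_skew hx hxs hs0, neg_neg]
    · rw [hi.neg_one_pow, one_mul]
    · intro a ha
      apply eq_zero_of_dmap hxs hsF hodd (by rw [hmov]; trivial)
      apply hnd
      intro b
      rw [dmap_skew hx hxs hs0]
      have := ha b
      rw [LinearMap.BilinForm.compRight_apply] at this
      rw [this, neg_zero]
    · intro y hy hc a b
      rw [LinearMap.BilinForm.compRight_apply, LinearMap.BilinForm.compRight_apply,
        ← Module.End.mul_apply (dmap x s) y, ← (commute_dmap hc s).eq, Module.End.mul_apply, hy]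

/-- semisimplicity of a map of order prime to the characteristic: invariant complements -/
theorem exists_invariant_compl {x : Module.End F V} {s : ℕ} (hxs : x ^ s = 1) (hsF : (s : F) ≠ 0)
    (K : Submodule F V) (hK : ∀ a ∈ K, x a ∈ K) :
    ∃ C : Submodule F V, (∀ c ∈ C, x c ∈ C) ∧ IsCompl K C := by
  have hsep : (X ^ s - C (1 : F)).Separable := separable_X_pow_sub_C 1 hsF one_ne_zero
  have hss : x.IsSemisimple := by
    apply Module.End.isSemisimple_of_squarefree_aeval_eq_zero hsep.squarefree
    simp [hxs]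
  obtain ⟨C, hC, hc⟩ := (Module.End.isSemisimple_iff.1 hss) K
    (by rw [Module.End.mem_invtSubmodule]; exact fun a ha => hK a ha)
  refine ⟨C, ?_, hc⟩
  rw [Module.End.mem_invtSubmodule] at hC
  exact fun c hcC => hC hcC

end forms

section main

variable {F : Type*} [Field F] [Fintype F] {V : Type*} [AddCommGroup V] [Module F V]
  [FiniteDimensional F V]

/-- **Mixed case.** -/
theorem mixed_case (p : ℕ) [hp : Fact p.Prime] [CharP F p] (h2 : (2 : F) ≠ 0) {n : ℕ}
    (hn : 1 ≤ n) (B : LinearMap.BilinForm F V) (hB : B.IsAlt)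
    (hnd : ∀ a, (∀ b, B a b = 0) → a = 0) (hdim : finrank F V = 2 * n)
    (T : Module.End F V) (hT : Pres B T) {s t : ℕ} (hs1 : 1 < s) (ht : 1 ≤ t)
    (hsp : Nat.Coprime s p) (hodd : Odd s) (hTk : ∀ j, T ^ j = 1 ↔ s * p ^ t ∣ j) :
    2 * (s * p ^ t) ∈ Set.range (orderOf : Cfsg.PSp n F → ℕ) := by
  by_contra hbad
  have hVnt : Nontrivial V := by
    apply Module.nontrivial_of_finrank_pos (R := F)
    rw [hdim]
    omega
  have hpodd : Odd p := by
    rcases hp.out.eq_two_or_odd' with h | h
    · exfalso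
      apply h2
      have := CharP.cast_eq_zero F p
      rw [h] at this
      exact_mod_cast this
    · exact h
  have hp0 : 0 < p := hp.out.pos
  have hkodd : Odd (s * p ^ t) := hodd.mul hpodd.pow
  have hsF : (s : F) ≠ 0 := by
    rw [Ne, CharP.cast_eq_zero_iff F p]
    intro h
    have := Nat.Coprime.eq_one_of_dvd hsp.symm h
    exact hp.out.one_lt.ne' this
  set x := T ^ (p ^ t) with hx
  set u := T ^ s with hu
  have hxord : ∀ j, x ^ j = 1 ↔ s ∣ j := by
    intro j
    rw [hx, ← pow_mul, hTk, mul_comm s, Nat.mul_dvd_mul_iff_left (pow_pos hp0 t)]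
  have huord : ∀ j, u ^ j = 1 ↔ p ^ t ∣ j := by
    intro j
    rw [hu, ← pow_mul, hTk, Nat.mul_dvd_mul_iff_left (by omega)]
  have hxs : x ^ s = 1 := (hxord s).2 dvd_rfl
  have hxpres : Pres B x := hT.pow _
  have hupres : Pres B u := hT.pow _
  have hTx : Commute T x := (Commute.refl T).pow_right _
  have hTu : Commute T u := (Commute.refl T).pow_right _
  have hxu : Commute x u := ((Commute.refl T).pow_right _).pow_left _
  -- powers of `x` are trivial or fixed point free
  have hkey : ∀ j : ℕ, fixS (x ^ j) ≠ ⊥ → s ∣ j := by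
    intro j hj
    by_contra hsj
    apply hbad
    apply good_of_fix h2 hn B hB hnd hdim T hT hkodd hTk (x ^ j) (hxpres.pow j)
      (hTx.pow_right j) (m := s) (by rw [← pow_mul, mul_comm, pow_mul, hxs, one_pow]) hsF hj
    intro h
    exact hsj ((hxord j).1 h)
  have hfix : fixS x = ⊥ := by
    by_contra h
    have := hkey 1 (by rwa [pow_one])
    have := Nat.le_of_dvd one_pos this
    omega
  -- the nilpotency index
  have hex : ∃ e : ℕ, (u - 1) ^ e = 0 := by
    refine ⟨p ^ t, ?_⟩
    rw [sub_one_pow_char_pow p u t, (huord _).2 dvd_rfl, sub_self]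
  classical
  set e := Nat.find hex with he
  have heN : (u - 1) ^ e = 0 := Nat.find_spec hex
  have he0 : e ≠ 0 := by
    intro h
    rw [h, pow_zero] at heN
    exact one_ne_zero heN
  have heN' : (u - 1) ^ (e - 1) ≠ 0 := Nat.find_min hex (by omega)
  have hpe : p ^ (t - 1) < e := by
    by_contra hcon
    push Not at hcon
    have h5 : (u - 1) ^ (p ^ (t - 1)) = 0 := by
      rw [← Nat.sub_add_cancel hcon, pow_add, heN, mul_zero]
    rw [sub_one_pow_char_pow p u (t - 1), sub_eq_zero, huord] at h5
    have h6 := Nat.le_of_dvd (pow_pos hp0 _) h5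
    have h7 : p ^ (t - 1) < p ^ t := Nat.pow_lt_pow_right hp.out.one_lt (by omega)
    omega
  have he2 : 2 ≤ e := by
    have : 1 ≤ p ^ (t - 1) := Nat.one_le_pow _ _ hp0
    omega
  set M := (u - 1) ^ (e - 1) with hM
  have hxM : Commute x M := (hxu.sub_right (Commute.one_right x)).pow_right _
  have hrange0 : LinearMap.range M ≠ ⊥ := by
    intro h
    exact heN' (LinearMap.range_eq_bot.1 h)
  -- the order of `x` on the range of `M`
  have hxA : ∀ j : ℕ, (∀ a ∈ LinearMap.range M, (x ^ j) a = a) ↔ s ∣ j := by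
    intro j
    constructor
    · intro h
      apply hkey
      intro h3
      apply hrange0
      rw [eq_bot_iff, ← h3]
      intro a ha
      exact mem_fixS.2 (h a ha)
    · intro h a _
      rw [(hxord j).2 h, Module.End.one_apply]
  -- the forms
  obtain ⟨B₀, ε, hε, hεe, hnd₀, hpres₀⟩ :=
    exists_form h2 B hB hnd hxpres hxs hsF hodd hfix (e - 1)
  have hu₀ : Pres B₀ u := hpres₀ u hupres hxu.symm
  have hx₀ : Pres B₀ x := hpres₀ x hxpres (Commute.refl x)
  obtain ⟨C, hCx, hc⟩ := exists_invariant_compl hxs hsF (LinearMap.ker M) (by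
    intro a ha
    rw [LinearMap.mem_ker] at ha ⊢
    rw [← Module.End.mul_apply, ← hxM.eq, Module.End.mul_apply, ha, map_zero])
  set xC : Module.End F ↥C := x.restrict hCx with hxC
  have hxCcoe : ∀ w, ((xC w : ↥C) : V) = x w := fun w => rfl
  set β := rangeForm B₀ M C with hβ
  have hβswap : ∀ a b, β b a = - β a b := by
    intro a b
    rw [hβ, hM, rangeForm_swap hu₀ heN (by omega) hε, hεe, neg_one_mul]
  have hβalt : β.IsAlt := by
    intro a
    have h1 := hβswap a a
    have h3 : (2 : F) * β a a = 0 := by linear_combination h1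
    rcases mul_eq_zero.1 h3 with h | h
    · exact absurd h h2
    · exact h
  have hβnd : ∀ a, (∀ b, β a b = 0) → a = 0 := by
    intro a ha
    exact rangeForm_nondeg hu₀ heN (by omega) hnd₀ hc a ha
  have hβpres : Pres β xC := rangeForm_pres hx₀ hxM hxCcoe
  have hCpow : ∀ (j : ℕ), ∀ c ∈ C, (x ^ j) c ∈ C := by
    intro j
    induction j with
    | zero => intro a ha; simpa using ha
    | succ i ih => intro a ha; rw [pow_succ, Module.End.mul_apply]; exact ih _ (hCx a ha)
  have hxCord : ∀ j : ℕ, xC ^ j = 1 ↔ s ∣ j := by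
    intro j
    rw [← hxA j, ← fix_compl_iff_fix_range (hxM.pow_left j) hc (hCpow j)]
    constructor
    · intro h c hcC
      have h3 := congrArg (fun f : Module.End F ↥C => ((f ⟨c, hcC⟩ : ↥C) : V)) h
      simp only [res_pow hxCcoe, Module.End.one_apply] at h3
      exact h3
    · intro h
      apply LinearMap.ext
      intro w
      apply Subtype.ext
      rw [res_pow hxCcoe, h _ w.2, Module.End.one_apply]
  -- dimensions
  have hdC : finrank F ↥C = finrank F ↥(LinearMap.range M) := finrank_compl_ker M hc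
  have hchain := Cfsg.Agent.Lib.Carve.K4.chain_bound (u - 1) e heN (by omega)
  rw [← hM, ← hdC, hdim] at hchain
  have hCpos : 0 < finrank F ↥C := by
    rw [hdC]
    rw [Module.finrank_pos_iff_exists_ne_zero]
    obtain ⟨a, ha, ha0⟩ := (Submodule.ne_bot_iff _).1 hrange0
    exact ⟨⟨a, ha⟩, fun h => ha0 (congrArg Subtype.val h)⟩
  have hCnt : Nontrivial ↥C := Module.nontrivial_of_finrank_pos (R := F) hCpos
  obtain ⟨c, hceven⟩ := AltForm.even_finrank_of_nondegenerate hβalt hβnd
  have h1c : 1 ≤ c := by omega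
  have hec : e * (c + c) ≤ 2 * n := by rw [← hceven]; exact hchain
  have hcn : c < n := by
    by_contra hcon
    push Not at hcon
    have : 2 * (c + c) ≤ e * (c + c) := Nat.mul_le_mul_right _ he2
    omega
  have hpm : p ^ (t - 1) < 2 * (n - c) := by
    have h3 : e * 2 ≤ e * (c + c) := Nat.mul_le_mul_left _ (by omega)
    have h4 : (e - 1) * (c + c) + (c + c) = e * (c + c) := by
      rw [← Nat.succ_mul]
      congr 1
      omega
    have h5 : (e - 1) * 2 ≤ (e - 1) * (c + c) := Nat.mul_le_mul_left _ (by omega)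
    have h6 : (e - 1) * 2 = 2 * e - 2 := by omega
    omega
  have hfin := construct p h2 hn β hβalt hβnd (m := n - c) (by omega)
    (by rw [hceven]; omega) xC hβpres hodd hsp hxCord ht hpm
  apply hbad
  rwa [mul_assoc] at hfin

end main

end Cfsg.Agent.Lib.Helper5.PSpCube
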