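import Mathlib
import Cfsg.Agent.Lib.Helper5.Cube.Mixed
import Cfsg.Agent.Lib.Helper5.PrimeGraph2
import Cfsg.Agent.Lib.Helper8.CarveK3
import Cfsg.Agent.Lib.Helper8.CarveK2

/-!
The semisimple case: an isometry of odd order `k` prime to `p`.
-/

set_option autoImplicit false

namespace Cfsg.Agent.Lib.Helper5.PSpCube

open Module Polynomial Cfsg.Agent.Lib.Helper5.PGBC Cfsg.Agent.Lib.Helper5.SpecBC
  Cfsg.Agent.Lib.Helper5.PrimeGraph

section irr

variable {F : Type*} [Field F] [Fintype F] {V : Type*} [AddCommGroup V] [Module F V]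
  [FiniteDimensional F V]

theorem aeval_X_pow_sub_one (T : Module.End F V) (j : ℕ) :
    aeval T (X ^ j - C (1 : F)) = T ^ j - 1 := by
  simp

/-- an irreducibly acting map of finite order has order dividing `q^dim - 1` -/
theorem irr_pow [Nontrivial V] (T : Module.End F V)
    (hirr : ∀ S : Submodule F V, (∀ a ∈ S, T a ∈ S) → S = ⊥ ∨ S = ⊤) {k : ℕ} (hk0 : 0 < k)
    (hTk : T ^ k = 1) : T ^ (Fintype.card F ^ finrank F V - 1) = 1 := by
  obtain ⟨hirrμ, hdeg⟩ := Cfsg.Agent.Lib.Carve.K2.irr_minpoly T hirr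
  have hdvd : minpoly F T ∣ X ^ k - C 1 := by
    apply minpoly.dvd
    rw [aeval_X_pow_sub_one, hTk, sub_self]
  have h1 := root_pow_card_sub_one (minpoly F T) hirrμ hk0 hdvd
  rw [hdeg, ← dvd_X_pow_sub_one_iff] at h1
  have h3 := (minpoly.dvd_iff (A := F) (x := T)).1 h1
  rw [aeval_X_pow_sub_one, sub_eq_zero] at h3
  exact h3

/-- polynomial identities transfer to the inverse of an isometry -/
theorem aeval_inv_eq_zero {B : LinearMap.BilinForm F V} (hB : B.IsAlt)
    (hnd : ∀ a, (∀ b, B a b = 0) → a = 0) {T : Module.End F V} (hT : Pres B T) {k : ℕ}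
    (hk0 : 0 < k) (hTk : T ^ k = 1) (P : F[X]) (hP : aeval T P = 0) :
    aeval (T ^ (k - 1)) P = 0 := by
  have hmon : ∀ (i : ℕ) (a b : V), B ((T ^ i) a) b = B a (((T ^ (k - 1)) ^ i) b) := by
    intro i a b
    have h1 : b = (T ^ i) (((T ^ (k - 1)) ^ i) b) := by
      rw [← Module.End.mul_apply, ← pow_mul, ← pow_add]
      have : i + (k - 1) * i = k * i := by
        cases k with
        | zero => omega
        | succ k' =>
          simp only [Nat.add_sub_cancel]
          ring
      rw [this, pow_mul, hTk, one_pow, Module.End.one_apply]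
    nth_rewrite 1 [h1]
    exact (hT.pow i) _ _
  have hadj : ∀ (Q : F[X]) (a b : V), B ((aeval T Q) a) b = B a ((aeval (T ^ (k - 1)) Q) b) := by
    intro Q
    induction Q using Polynomial.induction_on' with
    | add Q₁ Q₂ h₁ h₂ =>
      intro a b
      simp only [map_add, LinearMap.add_apply, h₁, h₂]
    | monomial i c =>
      intro a b
      simp only [aeval_monomial, Module.algebraMap_end_eq_smul_id, LinearMap.smul_apply,
        LinearMap.id_coe, id_eq, Module.End.mul_apply, map_smul, hmon]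
  apply LinearMap.ext
  intro b
  rw [LinearMap.zero_apply]
  apply hnd
  intro a
  rw [← hB.neg_eq, ← hadj, hP, LinearMap.zero_apply, map_zero, LinearMap.zero_apply, neg_zero]

/-- an irreducibly acting isometry of odd order `k` of a symplectic space of dimension `2n`: `k`
divides `q^n - 1` or `q^n + 1`. -/
theorem irr_sp [Nontrivial V] {B : LinearMap.BilinForm F V} (hB : B.IsAlt)
    (hnd : ∀ a, (∀ b, B a b = 0) → a = 0) {n : ℕ} (hdim : finrank F V = 2 * n)
    (T : Module.End F V) (hT : Pres B T)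
    (hirr : ∀ S : Submodule F V, (∀ a ∈ S, T a ∈ S) → S = ⊥ ∨ S = ⊤) {k : ℕ} (hk : Odd k)
    (hTk : ∀ j, T ^ j = 1 ↔ k ∣ j) :
    k ∣ Fintype.card F ^ n - 1 ∨ k ∣ Fintype.card F ^ n + 1 := by
  have hk0 : 0 < k := hk.pos
  have hTkk : T ^ k = 1 := (hTk k).2 dvd_rfl
  obtain ⟨hirrμ, hdeg⟩ := Cfsg.Agent.Lib.Carve.K2.irr_minpoly T hirr
  have := Fact.mk hirrμ
  set μ := minpoly F T with hμ
  set α := AdjoinRoot.root μ with hα
  have hαiff : ∀ j : ℕ, α ^ j = 1 ↔ k ∣ j := by
    intro j
    rw [← dvd_X_pow_sub_one_iff, hμ, minpoly.dvd_iff, aeval_X_pow_sub_one, sub_eq_zero, hTk]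
  have hαk : α ^ k = 1 := (hαiff k).2 dvd_rfl
  have hα0 : α ≠ 0 := by
    intro h
    rw [h, zero_pow hk0.ne'] at hαk
    exact zero_ne_one hαk
  have hαinv : α⁻¹ = α ^ (k - 1) := by
    apply inv_eq_of_mul_eq_one_right
    rw [← pow_succ', Nat.sub_add_cancel hk0, hαk]
  have hinv : aeval α⁻¹ μ = 0 := by
    have h1 : aeval (T ^ (k - 1)) μ = 0 :=
      aeval_inv_eq_zero hB hnd hT hk0 hTkk μ (minpoly.aeval F T)
    have h3 : aeval T (μ.comp (X ^ (k - 1))) = 0 := by
      rw [aeval_comp, map_pow, aeval_X, h1]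
    obtain ⟨c, hc⟩ := minpoly.dvd F T h3
    have h4 : aeval α (μ.comp (X ^ (k - 1))) = 0 := by
      rw [hc, map_mul, ← hμ, hα, AdjoinRoot.aeval_eq, AdjoinRoot.mk_self, zero_mul]
    rwa [aeval_comp, map_pow, aeval_X, ← hαinv] at h4
  obtain ⟨i, hi⟩ := orderOf_root_dvd_pow_add_one μ hα0 hinv
  have h1 : k ∣ Fintype.card F ^ i + 1 := by
    rw [← hαiff, ← orderOf_dvd_iff_pow_eq_one]
    exact hi
  have hdvd : μ ∣ X ^ k - C 1 := by
    apply minpoly.dvd
    rw [aeval_X_pow_sub_one, hTkk, sub_self]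
  have h3 := root_pow_card_sub_one μ hirrμ hk0 hdvd
  rw [hdeg, hdim, ← hα, hαiff] at h3
  exact Cfsg.Agent.Lib.Carve.K3.dvd_pm_of_dvd hk h1 h3

end irr

section main

variable {F : Type*} [Field F] [Fintype F] {V : Type*} [AddCommGroup V] [Module F V]
  [FiniteDimensional F V]

theorem pow_invariant {T : Module.End F V} {W : Submodule F V} (hW : ∀ a ∈ W, T a ∈ W) (j : ℕ) :
    ∀ a ∈ W, (T ^ j) a ∈ W := by
  induction j with
  | zero => intro a ha; simpa using ha
  | succ i ih => intro a ha; rw [pow_succ, Module.End.mul_apply]; exact ih _ (hW a ha)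

/-- **Semisimple case.** -/
theorem semi_case (h2 : (2 : F) ≠ 0) {n : ℕ}
    (hn : 1 ≤ n) (B : LinearMap.BilinForm F V) (hB : B.IsAlt)
    (hnd : ∀ a, (∀ b, B a b = 0) → a = 0) (hdim : finrank F V = 2 * n)
    (T : Module.End F V) (hT : Pres B T) {k : ℕ} (hk : Odd k) (hkF : (k : F) ≠ 0)
    (hTk : ∀ j, T ^ j = 1 ↔ k ∣ j) :
    2 * k ∈ Set.range (orderOf : Cfsg.PSp n F → ℕ) ∨ k ∣ Fintype.card F ^ n - 1 ∨
      k ∣ Fintype.card F ^ n + 1 := by
  by_cases hgood : 2 * k ∈ Set.range (orderOf : Cfsg.PSp n F → ℕ)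
  · exact Or.inl hgood
  right
  have hind : ∀ W : Submodule F V, (∀ a ∈ W, T a ∈ W) →
      (∀ a ∈ W, (∀ b ∈ W, B a b = 0) → a = 0) → W = ⊥ ∨ W = ⊤ := by
    intro W hW hWnd
    by_contra hcon
    push Not at hcon
    exact hgood (good_of_nondeg h2 hn B hB hnd hdim T hT hk hTk W hW hWnd hcon.1 hcon.2)
  have hVnt : Nontrivial V := by
    apply Module.nontrivial_of_finrank_pos (R := F)
    rw [hdim]
    omega
  have hk0 : 0 < k := hk.pos
  have hTkk : T ^ k = 1 := (hTk k).2 dvd_rfl
  have hBnd : B.Nondegenerate := hB.isRefl.nondegenerate_iff_separatingLeft.2 hnd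
  -- a minimal invariant subspace
  let S : Set (Submodule F V) := {W | W ≠ ⊥ ∧ ∀ a ∈ W, T a ∈ W}
  have hSne : S.Nonempty := ⟨⊤, top_ne_bot, fun a _ => Submodule.mem_top⟩
  obtain ⟨U, ⟨hU0, hU⟩, hUmin⟩ :=
    WellFounded.has_min (wellFounded_lt (α := Submodule F V)) S hSne
  have hUmin' : ∀ W : Submodule F V, W ≤ U → (∀ a ∈ W, T a ∈ W) → W = ⊥ ∨ W = U := by
    intro W hWU hW
    by_cases h0 : W = ⊥
    · exact Or.inl h0
    · right
      by_contra hne
      exact hUmin W ⟨h0, hW⟩ (lt_of_le_of_ne hWU hne)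
  have hUorth : ∀ b ∈ B.orthogonal U, T b ∈ B.orthogonal U := orth_invariant hT hk0 hTkk hU
  have hrad := hUmin' (U ⊓ B.orthogonal U) inf_le_left (by
    intro a ha
    obtain ⟨ha1, ha2⟩ := Submodule.mem_inf.1 ha
    exact Submodule.mem_inf.2 ⟨hU a ha1, hUorth a ha2⟩)
  rcases hrad with hrad | hrad
  · -- `U` is nondegenerate, hence everything
    have hUnd : ∀ a ∈ U, (∀ b ∈ U, B a b = 0) → a = 0 := by
      intro a ha hab
      have h1 : a ∈ U ⊓ B.orthogonal U := by
        refine Submodule.mem_inf.2 ⟨ha, ?_⟩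
        rw [LinearMap.BilinForm.mem_orthogonal_iff]
        intro b hb
        show B b a = 0
        rw [← hB.neg_eq, hab b hb, neg_zero]
      rw [hrad] at h1
      exact (Submodule.mem_bot F).1 h1
    have hUtop : U = ⊤ := by
      rcases hind U hU hUnd with h | h
      · exact absurd h hU0
      · exact h
    have hirr : ∀ S : Submodule F V, (∀ a ∈ S, T a ∈ S) → S = ⊥ ∨ S = ⊤ := by
      intro W hW
      have := hUmin' W (by rw [hUtop]; exact le_top) hW
      rwa [hUtop] at this
    exact irr_sp hB hnd hdim T hT hirr hk hTk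
  · -- `U` is totally isotropic
    left
    have hUiso : U ≤ B.orthogonal U := by
      have h1 : U ⊓ B.orthogonal U ≤ B.orthogonal U := inf_le_right
      rwa [hrad] at h1
    obtain ⟨C, hCT, hc⟩ := exists_invariant_compl hTkk hkF (B.orthogonal U) hUorth
    have hWinv : ∀ a ∈ U ⊔ C, T a ∈ U ⊔ C := by
      intro z hz
      obtain ⟨a, ha, c, hcC, rfl⟩ := Submodule.mem_sup.1 hz
      rw [map_add]
      exact Submodule.add_mem_sup (hU a ha) (hCT c hcC)
    have hWnd : ∀ a ∈ U ⊔ C, (∀ b ∈ U ⊔ C, B a b = 0) → a = 0 := by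
      intro z hz hzb
      obtain ⟨a, ha, c, hcC, rfl⟩ := Submodule.mem_sup.1 hz
      have hc0 : c = 0 := by
        have h1 : c ∈ B.orthogonal U ⊓ C := by
          refine Submodule.mem_inf.2 ⟨?_, hcC⟩
          rw [LinearMap.BilinForm.mem_orthogonal_iff]
          intro a' ha'
          show B a' c = 0
          have h3 := hzb a' (Submodule.mem_sup_left ha')
          rw [map_add, LinearMap.add_apply] at h3
          have h4 : B a a' = 0 := (LinearMap.BilinForm.mem_orthogonal_iff.1 (hUiso ha')) a ha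
          rw [h4, zero_add] at h3
          rw [← hB.neg_eq, h3, neg_zero]
        rw [hc.inf_eq_bot] at h1
        exact (Submodule.mem_bot F).1 h1
      rw [hc0, add_zero]
      apply hnd
      intro z'
      have hz' : z' ∈ B.orthogonal U ⊔ C := by rw [hc.sup_eq_top]; trivial
      obtain ⟨b, hb, c', hc', rfl⟩ := Submodule.mem_sup.1 hz'
      rw [map_add]
      have h5 : B a b = 0 := (LinearMap.BilinForm.mem_orthogonal_iff.1 hb) a ha
      have h6 := hzb c' (Submodule.mem_sup_right hc')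
      rw [hc0, add_zero] at h6
      rw [h5, h6, add_zero]
    have hWtop : U ⊔ C = ⊤ := by
      rcases hind (U ⊔ C) hWinv hWnd with h | h
      · exfalso
        apply hU0
        rw [eq_bot_iff, ← h]
        exact le_sup_left
      · exact h
    have hdisj : U ⊓ C = ⊥ := by
      rw [eq_bot_iff, ← hc.inf_eq_bot]
      exact inf_le_inf_right C hUiso
    have hUC : IsCompl U C := IsCompl.of_eq hdisj hWtop
    -- dimensions
    have hd1 : finrank F ↥(B.orthogonal U) = 2 * n - finrank F ↥U := by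
      rw [LinearMap.BilinForm.finrank_orthogonal hBnd, hdim]
    have hd2 := Submodule.finrank_add_eq_of_isCompl hc
    have hd3 := Submodule.finrank_add_eq_of_isCompl hUC
    have hd4 : finrank F ↥U ≤ finrank F V := Submodule.finrank_le U
    have hdU : finrank F ↥U = n := by omega
    -- the action on `U`
    set TU : Module.End F ↥U := T.restrict hU with hTU
    have hTUcoe : ∀ w, ((TU w : ↥U) : V) = T w := fun w => rfl
    have hUnt : Nontrivial ↥U := by
      apply Module.nontrivial_of_finrank_pos (R := F)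
      rw [hdU]
      omega
    have hTUirr : ∀ S' : Submodule F ↥U, (∀ a ∈ S', TU a ∈ S') → S' = ⊥ ∨ S' = ⊤ := by
      intro S' hS'
      have h1 := hUmin' (S'.map U.subtype) (by
        intro a ha
        obtain ⟨w, -, rfl⟩ := Submodule.mem_map.1 ha
        exact w.2) (by
        intro a ha
        obtain ⟨w, hw, rfl⟩ := Submodule.mem_map.1 ha
        exact Submodule.mem_map.2 ⟨TU w, hS' w hw, rfl⟩)
      rcases h1 with h1 | h1
      · left
        rw [eq_bot_iff]
        intro w hw
        have h3 : (w : V) ∈ S'.map U.subtype := Submodule.mem_map.2 ⟨w, hw, rfl⟩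
        rw [h1] at h3
        exact (Submodule.mem_bot F).2 (Subtype.ext ((Submodule.mem_bot F).1 h3))
      · right
        apply Submodule.map_injective_of_injective U.injective_subtype
        rw [h1, Submodule.map_subtype_top]
    have hTUk : TU ^ k = 1 := by
      apply LinearMap.ext
      intro w
      apply Subtype.ext
      rw [res_pow hTUcoe, hTkk]
      rfl
    have hTUpow := irr_pow TU hTUirr hk0 hTUk
    rw [hdU] at hTUpow
    set m := Fintype.card F ^ n - 1 with hm
    have hfixU : ∀ a ∈ U, (T ^ m) a = a := by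
      intro a ha
      have h3 := congrArg (fun f : Module.End F ↥U => ((f ⟨a, ha⟩ : ↥U) : V)) hTUpow
      simp only [res_pow hTUcoe, Module.End.one_apply] at h3
      exact h3
    have hfixC : ∀ c ∈ C, (T ^ m) c = c := by
      intro c hcC
      have h1 : (T ^ m) c - c ∈ B.orthogonal U ⊓ C := by
        refine Submodule.mem_inf.2 ⟨?_, C.sub_mem (pow_invariant hCT m c hcC) hcC⟩
        rw [LinearMap.BilinForm.mem_orthogonal_iff]
        intro a ha
        show B a ((T ^ m) c - c) = 0
        rw [map_sub]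
        nth_rewrite 1 [← hfixU a ha]
        rw [(hT.pow m) a c, sub_self]
      rw [hc.inf_eq_bot] at h1
      exact sub_eq_zero.1 ((Submodule.mem_bot F).1 h1)
    rw [← hTk]
    apply ext_isCompl hUC
    · intro a ha
      rw [hfixU a ha, Module.End.one_apply]
    · intro c hcC
      rw [hfixC c hcC, Module.End.one_apply]

end main

end Cfsg.Agent.Lib.Helper5.PSpCube
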