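import Mathlib
import Cfsg.Agent.Lib.Helper5.Cube.Semi
import Cfsg.Agent.Lib.Helper5.PGBC.Concrete
import Cfsg.Agent.Lib.Helper5.PGBC.Torus

/-!
The structure theorem for odd element orders of `PSp_{2n}(q)`, `q` odd.
-/

set_option autoImplicit false

namespace Cfsg.Agent.Lib.Helper5.PSpCube

open Module Cfsg.Agent.Lib.Helper5.PGBC Cfsg.Agent.Lib.Helper5.SpecBC
  Cfsg.Agent.Lib.Helper2.SpIsom Cfsg.Agent.Lib.Helper5.SpRep

section abs

variable {F : Type*} [Field F] [Fintype F] {V : Type*} [AddCommGroup V] [Module F V]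
  [FiniteDimensional F V]

/-- the exceptional unipotent orders -/
def IsU (p n k : ℕ) : Prop := ∃ t, 1 ≤ t ∧ k = p ^ t ∧ p ^ (t - 1) = 2 * n - 1

theorem IsU.unique {p n k k' : ℕ} (hp : p.Prime) (h : IsU p n k) (h' : IsU p n k') : k = k' := by
  obtain ⟨t, ht, rfl, h1⟩ := h
  obtain ⟨t', ht', rfl, h1'⟩ := h'
  have h3 : t - 1 = t' - 1 := Nat.pow_right_injective hp.two_le (by
    show p ^ (t - 1) = p ^ (t' - 1)
    rw [h1, h1'])
  have : t = t' := by omega
  rw [this]

/-- **Structure theorem**, abstract form. -/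
theorem struct_abs (p : ℕ) [hp : Fact p.Prime] [CharP F p] (h2 : (2 : F) ≠ 0) {n : ℕ}
    (hn : 1 ≤ n) (B : LinearMap.BilinForm F V) (hB : B.IsAlt)
    (hnd : ∀ a, (∀ b, B a b = 0) → a = 0) (hdim : finrank F V = 2 * n)
    (T : Module.End F V) (hT : Pres B T) {k : ℕ} (hk : Odd k) (hTk : ∀ j, T ^ j = 1 ↔ k ∣ j) :
    2 * k ∈ Set.range (orderOf : Cfsg.PSp n F → ℕ) ∨ k ∣ Fintype.card F ^ n - 1 ∨
      k ∣ Fintype.card F ^ n + 1 ∨ IsU p n k := by
  obtain ⟨t, s, hps, hks⟩ := Nat.exists_eq_pow_mul_and_not_dvd hk.pos.ne' p hp.out.ne_one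
  have hsodd : Odd s := by
    rw [hks] at hk
    exact (Nat.odd_mul.1 hk).2
  have hsp : Nat.Coprime s p := ((Nat.Prime.coprime_iff_not_dvd hp.out).2 hps).symm
  rcases Nat.eq_zero_or_pos t with ht | ht
  · -- semisimple
    rw [ht, pow_zero, one_mul] at hks
    have hkF : (k : F) ≠ 0 := by
      rw [Ne, CharP.cast_eq_zero_iff F p, hks]
      exact hps
    rcases semi_case h2 hn B hB hnd hdim T hT hk hkF hTk with h | h | h
    · exact Or.inl h
    · exact Or.inr (Or.inl h)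
    · exact Or.inr (Or.inr (Or.inl h))
  · by_cases hs1 : s = 1
    · -- unipotent
      rw [hs1, mul_one] at hks
      rw [hks] at hTk ⊢
      rcases unip_case p h2 hn B hdim T ht hTk with h | h
      · exact Or.inl h
      · exact Or.inr (Or.inr (Or.inr ⟨t, ht, rfl, h⟩))
    · -- mixed
      left
      have hs1' : 1 < s := by
        have := hsodd.pos
        omega
      rw [mul_comm] at hks
      rw [hks] at hTk ⊢
      exact mixed_case p h2 hn B hB hnd hdim T hT hs1' ht hsp hsodd hTk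

end abs

section concrete

variable {F : Type*} [Field F] [Fintype F]

/-- **Structure theorem** for `PSp_{2n}(q)`. -/
theorem struct_psp (p : ℕ) [hp : Fact p.Prime] [CharP F p] (h2 : (2 : F) ≠ 0) {n : ℕ}
    (hn : 1 ≤ n) {k : ℕ} (hk : Odd k) (hmem : k ∈ Set.range (orderOf : Cfsg.PSp n F → ℕ)) :
    2 * k ∈ Set.range (orderOf : Cfsg.PSp n F → ℕ) ∨ k ∣ Fintype.card F ^ n - 1 ∨
      k ∣ Fintype.card F ^ n + 1 ∨ IsU p n k := by
  classical
  rw [Cfsg.Agent.Lib.Helper5.PrimeGraph.orderOf_mem_range_psp_iff hn k (Or.inl hk)] at hmem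
  obtain ⟨g, hg⟩ := hmem
  apply struct_abs p h2 hn (sympBilin n F) sympBilin_isAlt sympBilin_nondeg' (finrank_sp_space n)
    (slin g) (slin_pres g) hk
  intro j
  rw [slin_pow_eq_one_iff, hg]

/-- odd divisors of `q^n ± 1` are element orders -/
theorem torus_mem {n : ℕ} (hn : 1 ≤ n) {k : ℕ} (hk : Odd k)
    (hdvd : k ∣ Fintype.card F ^ n - 1 ∨ k ∣ Fintype.card F ^ n + 1) :
    k ∈ Set.range (orderOf : Cfsg.PSp n F → ℕ) := by
  rw [Cfsg.Agent.Lib.Helper5.PrimeGraph.orderOf_mem_range_psp_iff hn k (Or.inl hk)]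
  have hrep : HasSpRep F (Multiplicative (ZMod k)) n := by
    rcases hdvd with h | h
    · exact hasSpRep_zmod_split n (by omega) h
    · exact hasSpRep_zmod_nonsplit n (by omega) h
  obtain ⟨x, hx⟩ := hrep.exists_orderOf (Multiplicative.ofAdd (1 : ZMod k))
  refine ⟨x, ?_⟩
  rw [hx, orderOf_ofAdd_eq_addOrderOf, ZMod.addOrderOf_one]

/-- the classification of odd element orders relative to the torus order `Q ≡ 2 (mod 4)` -/
theorem exists_Q (p : ℕ) [hp : Fact p.Prime] [CharP F p] (hodd : Odd (Fintype.card F)) {n : ℕ}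
    (hn : 1 ≤ n) :
    ∃ Q : ℕ, Odd (Q / 2) ∧ 0 < Q ∧
      (∀ k : ℕ, Odd k → k ∣ Q → k ∈ Set.range (orderOf : Cfsg.PSp n F → ℕ)) ∧
      (∀ k : ℕ, Odd k → k ∈ Set.range (orderOf : Cfsg.PSp n F → ℕ) →
        2 * k ∈ Set.range (orderOf : Cfsg.PSp n F → ℕ) ∨ k ∣ Q ∨ IsU p n k) := by
  have h2 : (2 : F) ≠ 0 := two_ne_zero_of_odd_card hodd
  have hqn : Odd (Fintype.card F ^ n) := hodd.pow
  have hq1 : 1 ≤ Fintype.card F ^ n := Nat.one_le_pow _ _ Fintype.card_pos
  obtain ⟨c, hc⟩ := hqn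
  have hdbl : ∀ k : ℕ, Odd k → ∀ N : ℕ, 4 ∣ N → k ∣ N → 4 * k ∣ N := by
    intro k hk N h4 hkN
    apply Nat.Coprime.mul_dvd_of_dvd_of_dvd _ h4 hkN
    have : Nat.Coprime 2 k := (Nat.coprime_two_left).2 hk
    exact Nat.Coprime.pow_left 2 this
  rcases Nat.even_or_odd c with hce | hco
  · -- `q^n ≡ 1 (mod 4)`
    obtain ⟨c', hc'⟩ := hce
    refine ⟨Fintype.card F ^ n + 1, ?_, by omega, ?_, ?_⟩
    · rw [hc]
      have : (2 * c + 1 + 1) / 2 = c + 1 := by omega
      rw [this, hc']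
      exact ⟨c', by ring⟩
    · intro k hk hkQ
      exact torus_mem hn hk (Or.inr hkQ)
    · intro k hk hmem
      rcases struct_psp p h2 hn hk hmem with h | h | h | h
      · exact Or.inl h
      · left
        apply psp_torus_split p n hn hk.pos
        apply hdbl k hk _ _ h
        rw [hc]
        exact ⟨c', by omega⟩
      · exact Or.inr (Or.inl h)
      · exact Or.inr (Or.inr h)
  · -- `q^n ≡ 3 (mod 4)`
    obtain ⟨c', hc'⟩ := hco
    refine ⟨Fintype.card F ^ n - 1, ?_, by omega, ?_, ?_⟩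
    · rw [hc]
      have : (2 * c + 1 - 1) / 2 = c := by omega
      rw [this, hc']
      exact ⟨c', rfl⟩
    · intro k hk hkQ
      exact torus_mem hn hk (Or.inl hkQ)
    · intro k hk hmem
      rcases struct_psp p h2 hn hk hmem with h | h | h | h
      · exact Or.inl h
      · exact Or.inr (Or.inl h)
      · left
        apply psp_torus_nonsplit p n hn hk.pos
        apply hdbl k hk _ _ h
        rw [hc]
        exact ⟨c' + 1, by omega⟩
      · exact Or.inr (Or.inr h)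

end concrete

end Cfsg.Agent.Lib.Helper5.PSpCube
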