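import Mathlib
import Cfsg.Agent.Lib.Helper5.Cube.Struct

/-!
Spectra of `L × L × L × 2^m` and `L × L × 2^m` for `L = PSp_{2n}(q)`, `q` odd.
-/

set_option autoImplicit false

namespace Cfsg.Agent.Lib.Helper5.PSpCube

section comb

theorem lcm_two_mul_left (x : ℕ) {y : ℕ} (hy : Odd y) : Nat.lcm (2 * x) y = 2 * Nat.lcm x y := by
  have hcop : Nat.Coprime 2 y := (Nat.coprime_two_left).2 hy
  unfold Nat.lcm
  rw [Nat.Coprime.gcd_mul_left_cancel x hcop, mul_assoc,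
    Nat.mul_div_assoc 2 (Dvd.dvd.mul_right (Nat.gcd_dvd_left x y) y)]

theorem lcm_two_mul_right {x : ℕ} (y : ℕ) (hx : Odd x) : Nat.lcm x (2 * y) = 2 * Nat.lcm x y := by
  rw [Nat.lcm_comm, lcm_two_mul_left y hx, Nat.lcm_comm]

theorem odd_lcm {x y : ℕ} (hx : Odd x) (hy : Odd y) : Odd (Nat.lcm x y) :=
  Odd.of_dvd_nat (hx.mul hy) (Nat.lcm_dvd_mul x y)

variable {ω : Set ℕ}

theorem key_triple (h2 : 2 ∈ ω) {x y z : ℕ} (hz : z ∈ ω) (hxo : Odd x) (hyo : Odd y)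
    (hzo : Odd z) (hX : Nat.lcm x y ∈ ω) :
    ∃ a' ∈ ω, ∃ b' ∈ ω, ∃ c' ∈ ω,
      Nat.lcm a' (Nat.lcm b' c') = 2 * Nat.lcm x (Nat.lcm y z) := by
  refine ⟨Nat.lcm x y, hX, 2, h2, z, hz, ?_⟩
  have h1 : Nat.lcm 2 z = 2 * z := by
    have := lcm_two_mul_left 1 hzo
    rwa [mul_one, Nat.lcm_one_left] at this
  rw [h1, lcm_two_mul_right z (odd_lcm hxo hyo), Nat.lcm_assoc]

theorem triple_comb {Q : ℕ} {U : ℕ → Prop}
    (hU : ∀ k k', U k → U k' → k = k')
    (h1 : ∀ k, Odd k → k ∣ Q → k ∈ ω)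
    (h3 : ∀ k, Odd k → k ∈ ω → 2 * k ∈ ω ∨ k ∣ Q ∨ U k)
    (h2 : 2 ∈ ω) {a b c : ℕ} (ha : a ∈ ω) (hb : b ∈ ω) (hc : c ∈ ω) (hao : Odd a) (hbo : Odd b)
    (hco : Odd c) :
    ∃ a' ∈ ω, ∃ b' ∈ ω, ∃ c' ∈ ω,
      Nat.lcm a' (Nat.lcm b' c') = 2 * Nat.lcm a (Nat.lcm b c) := by
  have hpair : ∀ {x y : ℕ}, Odd x → Odd y → x ∈ ω → ((x ∣ Q ∧ y ∣ Q) ∨ x = y) →
      Nat.lcm x y ∈ ω := by
    intro x y hx hy hxω h
    rcases h with ⟨h, h'⟩ | h
    · exact h1 _ (odd_lcm hx hy) (Nat.lcm_dvd h h')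
    · rw [← h, Nat.lcm_self]
      exact hxω
  rcases h3 a hao ha with ga | ca
  · exact ⟨2 * a, ga, b, hb, c, hc, lcm_two_mul_left a (odd_lcm hbo hco)⟩
  rcases h3 b hbo hb with gb | cb
  · refine ⟨a, ha, 2 * b, gb, c, hc, ?_⟩
    rw [lcm_two_mul_left b hco, lcm_two_mul_right _ hao]
  rcases h3 c hco hc with gc | cc
  · refine ⟨a, ha, b, hb, 2 * c, gc, ?_⟩
    rw [lcm_two_mul_right c hbo, lcm_two_mul_right _ hao]
  have hpig : ((a ∣ Q ∧ b ∣ Q) ∨ a = b) ∨ ((a ∣ Q ∧ c ∣ Q) ∨ a = c) ∨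
      ((b ∣ Q ∧ c ∣ Q) ∨ b = c) := by
    rcases ca with da | ua <;> rcases cb with db | ub <;> rcases cc with dc | uc
    · exact Or.inl (Or.inl ⟨da, db⟩)
    · exact Or.inl (Or.inl ⟨da, db⟩)
    · exact Or.inr (Or.inl (Or.inl ⟨da, dc⟩))
    · exact Or.inr (Or.inr (Or.inr (hU _ _ ub uc)))
    · exact Or.inr (Or.inr (Or.inl ⟨db, dc⟩))
    · exact Or.inr (Or.inl (Or.inr (hU _ _ ua uc)))
    · exact Or.inl (Or.inr (hU _ _ ua ub))
    · exact Or.inl (Or.inr (hU _ _ ua ub))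
  rcases hpig with h | h | h
  · exact key_triple h2 hc hao hbo hco (hpair hao hbo ha h)
  · have := key_triple h2 hb hao hco hbo (hpair hao hco ha h)
    rwa [Nat.lcm_comm c b] at this
  · have := key_triple h2 ha hbo hco hao (hpair hbo hco hb h)
    rwa [← Nat.lcm_assoc, Nat.lcm_comm] at this

theorem pair_comb {Q : ℕ} {U : ℕ → Prop} (hU : ∀ k, ¬ U k)
    (h1 : ∀ k, Odd k → k ∣ Q → k ∈ ω)
    (h3 : ∀ k, Odd k → k ∈ ω → 2 * k ∈ ω ∨ k ∣ Q ∨ U k)
    (h2 : 2 ∈ ω) {a b : ℕ} (ha : a ∈ ω) (hb : b ∈ ω) (hao : Odd a) (hbo : Odd b) :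
    ∃ a' ∈ ω, ∃ b' ∈ ω, Nat.lcm a' b' = 2 * Nat.lcm a b := by
  rcases h3 a hao ha with ga | da | ua
  · exact ⟨2 * a, ga, b, hb, lcm_two_mul_left a hbo⟩
  · rcases h3 b hbo hb with gb | db | ub
    · exact ⟨a, ha, 2 * b, gb, lcm_two_mul_right b hao⟩
    · refine ⟨Nat.lcm a b, h1 _ (odd_lcm hao hbo) (Nat.lcm_dvd da db), 2, h2, ?_⟩
      have := lcm_two_mul_right 1 (odd_lcm hao hbo)
      rwa [mul_one, Nat.lcm_one_right] at this
    · exact absurd ub (hU b)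
  · exact absurd ua (hU a)

end comb

section spectra

variable {G : Type*} [Group G]

/-- elements of `(ℤ/2)^m` have order `1` or `2` -/
theorem orderOf_elem_two (m : ℕ) (e : Multiplicative (Fin m → ZMod 2)) :
    orderOf e = 1 ∨ orderOf e = 2 := by
  have h1 : e ^ 2 = 1 := by
    rw [pow_two]
    apply Multiplicative.toAdd.injective
    rw [toAdd_mul, toAdd_one]
    funext i
    exact CharTwo.add_self_eq_zero _
  exact (Nat.dvd_prime Nat.prime_two).1 (orderOf_dvd_of_pow_eq_one h1)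

theorem lcm_two_of_even {N : ℕ} (h : 2 ∣ N) : Nat.lcm N 2 = N :=
  Nat.lcm_eq_left_iff_dvd.2 h

/-- spectrum of `G × G × G × 2^m` -/
theorem spectrum_triple (m : ℕ)
    (h : ∀ a b c : G, Odd (orderOf a) → Odd (orderOf b) → Odd (orderOf c) →
      ∃ a' b' c' : G, Nat.lcm (orderOf a') (Nat.lcm (orderOf b') (orderOf c')) =
        2 * Nat.lcm (orderOf a) (Nat.lcm (orderOf b) (orderOf c))) :
    Set.range (orderOf : G × G × G × Multiplicative (Fin m → ZMod 2) → ℕ) =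
      Set.range (orderOf : G × G × G → ℕ) := by
  apply Set.eq_of_subset_of_subset
  · rintro N ⟨⟨a, b, c, e⟩, rfl⟩
    simp only [Prod.orderOf]
    rcases orderOf_elem_two m e with he | he
    · refine ⟨(a, b, c), ?_⟩
      simp only [Prod.orderOf, he, Nat.lcm_one_right]
    · rw [he]
      have hre : Nat.lcm (orderOf a) (Nat.lcm (orderOf b) (Nat.lcm (orderOf c) 2)) =
          Nat.lcm (Nat.lcm (orderOf a) (Nat.lcm (orderOf b) (orderOf c))) 2 := by
        rw [Nat.lcm_assoc, Nat.lcm_assoc]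
      rw [hre]
      by_cases hev : 2 ∣ Nat.lcm (orderOf a) (Nat.lcm (orderOf b) (orderOf c))
      · refine ⟨(a, b, c), ?_⟩
        simp only [Prod.orderOf]
        rw [lcm_two_of_even hev]
      · have hodd : Odd (Nat.lcm (orderOf a) (Nat.lcm (orderOf b) (orderOf c))) := by
          rw [← Nat.not_even_iff_odd, even_iff_two_dvd]
          exact hev
        have hao : Odd (orderOf a) := Odd.of_dvd_nat hodd (Nat.dvd_lcm_left _ _)
        have hbco : Odd (Nat.lcm (orderOf b) (orderOf c)) :=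
          Odd.of_dvd_nat hodd (Nat.dvd_lcm_right _ _)
        have hbo : Odd (orderOf b) := Odd.of_dvd_nat hbco (Nat.dvd_lcm_left _ _)
        have hco : Odd (orderOf c) := Odd.of_dvd_nat hbco (Nat.dvd_lcm_right _ _)
        obtain ⟨a', b', c', habc⟩ := h a b c hao hbo hco
        refine ⟨(a', b', c'), ?_⟩
        simp only [Prod.orderOf]
        rw [habc]
        have := lcm_two_mul_right 1 hodd
        rw [mul_one, Nat.lcm_one_right] at this
        exact this.symm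
  · rintro N ⟨⟨a, b, c⟩, rfl⟩
    refine ⟨(a, b, c, 1), ?_⟩
    simp only [Prod.orderOf, orderOf_one, Nat.lcm_one_right]

/-- spectrum of `G × G × 2^m` -/
theorem spectrum_pair (m : ℕ)
    (h : ∀ a b : G, Odd (orderOf a) → Odd (orderOf b) →
      ∃ a' b' : G, Nat.lcm (orderOf a') (orderOf b') =
        2 * Nat.lcm (orderOf a) (orderOf b)) :
    Set.range (orderOf : G × G × Multiplicative (Fin m → ZMod 2) → ℕ) =
      Set.range (orderOf : G × G → ℕ) := by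
  apply Set.eq_of_subset_of_subset
  · rintro N ⟨⟨a, b, e⟩, rfl⟩
    simp only [Prod.orderOf]
    rcases orderOf_elem_two m e with he | he
    · refine ⟨(a, b), ?_⟩
      simp only [Prod.orderOf, he, Nat.lcm_one_right]
    · rw [he, ← Nat.lcm_assoc]
      by_cases hev : 2 ∣ Nat.lcm (orderOf a) (orderOf b)
      · refine ⟨(a, b), ?_⟩
        simp only [Prod.orderOf]
        rw [lcm_two_of_even hev]
      · have hodd : Odd (Nat.lcm (orderOf a) (orderOf b)) := by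
          rw [← Nat.not_even_iff_odd, even_iff_two_dvd]
          exact hev
        have hao : Odd (orderOf a) := Odd.of_dvd_nat hodd (Nat.dvd_lcm_left _ _)
        have hbo : Odd (orderOf b) := Odd.of_dvd_nat hodd (Nat.dvd_lcm_right _ _)
        obtain ⟨a', b', hab⟩ := h a b hao hbo
        refine ⟨(a', b'), ?_⟩
        simp only [Prod.orderOf]
        rw [hab]
        have := lcm_two_mul_right 1 hodd
        rw [mul_one, Nat.lcm_one_right] at this
        exact this.symm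
  · rintro N ⟨⟨a, b⟩, rfl⟩
    refine ⟨(a, b, 1), ?_⟩
    simp only [Prod.orderOf, orderOf_one, Nat.lcm_one_right]

end spectra

section final

variable {F : Type*} [Field F] [Fintype F]

/-- **Main theorem.** -/
theorem psp_cube (p a n m : ℕ) (hp : p.Prime) (hF : Fintype.card F = p ^ a)
    (hodd : Odd (Fintype.card F)) (hn : 2 ≤ n) :
    Set.range (orderOf : Cfsg.PSp n F × Cfsg.PSp n F × Cfsg.PSp n F ×
        Multiplicative (Fin m → ZMod 2) → ℕ) =
      Set.range (orderOf : Cfsg.PSp n F × Cfsg.PSp n F × Cfsg.PSp n F → ℕ) ∧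
    ((¬ ∃ j : ℕ, 2 * n - 1 = p ^ j) →
      Set.range (orderOf : Cfsg.PSp n F × Cfsg.PSp n F ×
          Multiplicative (Fin m → ZMod 2) → ℕ) =
        Set.range (orderOf : Cfsg.PSp n F × Cfsg.PSp n F → ℕ)) := by
  have hpF : Fact p.Prime := ⟨hp⟩
  have hchar : CharP F p := by
    obtain ⟨p', hp'⟩ := CharP.exists F
    have hp'prime : p'.Prime := CharP.char_is_prime F p'
    have h1 : p' ∣ Fintype.card F :=
      (CharP.cast_eq_zero_iff F p' _).1 (Nat.cast_card_eq_zero F)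
    rw [hF] at h1
    have h3 : p' = p := (Nat.prime_dvd_prime_iff_eq hp'prime hp).1 (hp'prime.dvd_of_dvd_pow h1)
    rw [← h3]
    exact hp'
  have h2 : (2 : F) ≠ 0 := Cfsg.Agent.Lib.Helper5.SpecBC.two_ne_zero_of_odd_card hodd
  have hn1 : 1 ≤ n := by omega
  obtain ⟨Q, -, -, hQ1, hQ3⟩ := exists_Q (F := F) p hodd hn1
  have h2mem : 2 ∈ Set.range (orderOf : Cfsg.PSp n F → ℕ) := two_mem h2 hn
  constructor
  · apply spectrum_triple
    intro x y z hx hy hz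
    obtain ⟨a', ⟨x', rfl⟩, b', ⟨y', rfl⟩, c', ⟨z', rfl⟩, h⟩ :=
      triple_comb (ω := Set.range (orderOf : Cfsg.PSp n F → ℕ)) (U := IsU p n)
        (fun k k' hk hk' => IsU.unique hp hk hk') hQ1 hQ3 h2mem ⟨x, rfl⟩ ⟨y, rfl⟩ ⟨z, rfl⟩
        hx hy hz
    exact ⟨x', y', z', h⟩
  · intro hnp
    apply spectrum_pair
    intro x y hx hy
    have hU : ∀ k, ¬ IsU p n k := by
      rintro k ⟨t, -, -, ht⟩
      exact hnp ⟨t - 1, ht.symm⟩
    obtain ⟨a', ⟨x', rfl⟩, b', ⟨y', rfl⟩, h⟩ :=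
      pair_comb (ω := Set.range (orderOf : Cfsg.PSp n F → ℕ)) (U := IsU p n) hU hQ1 hQ3 h2mem
        ⟨x, rfl⟩ ⟨y, rfl⟩ hx hy
    exact ⟨x', y', h⟩

end final

end Cfsg.Agent.Lib.Helper5.PSpCube
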